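import Cfsg.Agent.Lib.MetacyclicOdd.Basic
import Cfsg.Agent.Lib.LocalEvenB.CDMeasure
import Cfsg.Prelude.Def_OddOrderLocal
import Cfsg.Agent.S0013
import Mathlib.GroupTheory.Nilpotent

/-!
The subgroup lattice of a metacyclic `p`-group, `p` odd: abelian subgroups, the Chermak–Delgado
measure, and the Frattini subgroup.
-/

namespace CfsgLib.MetacyclicOdd

open Subgroup
open CfsgLib.LocalEvenB.CDMeasure
open scoped commutatorElement

variable {G : Type*} [Group G] [Finite G] {p : ℕ} [hp : Fact p.Prime]

lemma isMetacyclic_subgroup (h : Cfsg.IsMetacyclic G) (H : Subgroup G) : Cfsg.IsMetacyclic H := by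
  obtain ⟨N, hn, hN, hQ⟩ := h
  refine ⟨N.subgroupOf H, inferInstance, ?_, ?_⟩
  · exact isCyclic_of_injective ((H.subtype.comp (N.subgroupOf H).subtype).codRestrict N fun x => x.2)
      fun x y e => by apply Subtype.ext; apply Subtype.ext; exact congrArg (fun z : N => (z : G)) e
  · refine isCyclic_of_injective (QuotientGroup.map (N.subgroupOf H) N H.subtype le_rfl) ?_
    rw [injective_iff_map_eq_one]
    intro q hq
    obtain ⟨x, rfl⟩ := QuotientGroup.mk_surjective q
    exact (QuotientGroup.eq_one_iff x).2 ((QuotientGroup.eq_one_iff (x : G)).1 hq)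

lemma data_of_metacyclic (hG : IsPGroup p G) (h : Cfsg.IsMetacyclic G) : Nonempty (Data p G) := by
  obtain ⟨N, hn, hN, hQ⟩ := h
  exact exists_data hG N hN hQ

lemma normal_index_of_isCoatom (hG : IsPGroup p G) {M : Subgroup G} (hM : IsCoatom M) :
    M.Normal ∧ M.index = p := by
  have := hG.isNilpotent
  have hn : M.Normal :=
    NormalizerCondition.normal_of_coatom M Group.normalizerCondition_of_isNilpotent hM
  refine ⟨hn, ?_⟩
  obtain ⟨m, hm⟩ := (hG.to_subgroup M).exists_card_eq
  obtain ⟨k, hk⟩ := hG.exists_card_eq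
  have hlt : m < k := by
    refine (Nat.pow_lt_pow_iff_right hp.out.one_lt).1 (hm ▸ hk ▸ ?_)
    exact lt_of_le_of_ne M.card_le_card_group fun e => hM.1 (eq_top_of_card_eq M e)
  obtain ⟨K, hK, hMK⟩ := Sylow.exists_subgroup_card_pow_prime_le p (G := G) (n := m) (m := m + 1)
    (hk ▸ pow_dvd_pow p hlt) M hm (Nat.le_succ m)
  have hKT : K = ⊤ := hM.2 K (lt_of_le_of_ne hMK fun e => by
    rw [← e, hm] at hK
    have := Nat.pow_right_injective hp.out.two_le hK
    omega)
  rw [hKT, card_top] at hK
  refine Nat.eq_of_mul_eq_mul_left (n := Nat.card M) Nat.card_pos ?_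
  rw [card_mul_index, hK, hm, pow_succ]

lemma card_commutator_subgroup (M : Subgroup G) :
    Nat.card ↥(commutator M) = Nat.card ↥⁅M, M⁆ := by
  rw [Nat.card_congr ((commutator M).equivMapOfInjective M.subtype M.subtype_injective).toEquiv,
    _root_.commutator_def, map_commutator, ← MonoidHom.range_eq_map, range_subtype]

namespace Data

variable (D : Data p G)

lemma n_eq_zero_iff (hodd : p ≠ 2) : D.n = 0 ↔ IsMulCommutative G := by
  constructor
  · intro h
    refine ⟨⟨fun x y => ?_⟩⟩
    have := D.commutator_mem_zpowers x y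
    have hA : D.A = 1 := orderOf_eq_one_iff.1 (by rw [orderOf_A, h, pow_zero])
    rw [hA, zpowers_one_eq_bot, mem_bot] at this
    exact commutatorElement_eq_one_iff_mul_comm.1 this
  · intro h
    have := D.index_center hodd
    rw [show center G = ⊤ from eq_top_iff.2 fun x _ => mem_center_iff.2 fun y => mul_comm' y x,
      index_top] at this
    have := Nat.pow_right_injective hp.out.two_le (a₁ := 2 * D.n) (a₂ := 0) (by simpa using this.symm)
    omega

/-- A maximal subgroup has the same abelianisation order as the whole group. -/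
lemma index_commutator_of_isCoatom (hodd : p ≠ 2) (hG : IsPGroup p G) (hn : 1 ≤ D.n)
    {M : Subgroup G} (hM : IsCoatom M) : (commutator M).index = (commutator G).index := by
  obtain ⟨hMn, hidx⟩ := normal_index_of_isCoatom hG hM
  set L := D.level 1
  have hLM : L ≤ M := by
    rw [show L = D.level 1 from rfl, ← D.closure_pow_eq_level hodd 1, closure_le]
    rintro _ ⟨y, rfl⟩
    rw [pow_one, ← hidx]
    exact pow_index_mem M y
  have hLi : L.index = p ^ 2 := by rw [D.index_level hodd hn]
  have hne : L ≠ M := fun e => by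
    rw [e, hidx] at hLi
    have := Nat.pow_right_injective hp.out.two_le (a₁ := 1) (a₂ := 2) (by simpa using hLi)
    omega
  obtain ⟨g, hgM, hgL⟩ := SetLike.exists_of_lt (lt_of_le_of_ne hLM hne)
  -- upper bound
  set W := zpowers (D.A ^ p)
  have hWn : W.Normal := by
    refine ⟨fun w hw x => ?_⟩
    obtain ⟨k, rfl⟩ := mem_powers_iff_mem_zpowers.2 hw
    obtain ⟨t, s, rfl⟩ := D.gen x
    have hb : D.a ^ t * D.b ^ s * D.a ^ (p ^ D.c * D.u * p * k) * (D.a ^ t * D.b ^ s)⁻¹ =
        (D.A ^ p) ^ (D.r ^ s * k) := by
      rw [mul_assoc (D.a ^ t), bpow_mul, A, ← pow_mul, ← pow_mul]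
      simp only [mul_inv_rev, mul_assoc, mul_inv_cancel_left]
      rw [← mul_assoc, ← pow_add, ← zpow_natCast D.a, ← zpow_natCast D.a t, ← zpow_neg,
        ← zpow_add, ← zpow_natCast]
      congr 1
      push_cast
      ring
    show _ * (D.A ^ p) ^ k * _ ∈ W
    rw [show (D.A ^ p) ^ k = D.a ^ (p ^ D.c * D.u * p * k) by rw [A, ← pow_mul, ← pow_mul, ← mul_assoc], hb]
    exact pow_mem (mem_zpowers _) _
  let π := QuotientGroup.mk' W
  have hLW : ∀ l ∈ L, ∀ x : G, ⁅x, l⁆ ∈ W := by
    rintro _ ⟨i, j, hi, hj, rfl⟩ x
    rw [pow_one] at hi hj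
    obtain ⟨t, s, rfl⟩ := D.gen x
    obtain ⟨i', rfl⟩ := hi
    obtain ⟨w, hw⟩ := (pow_dvd_geom hodd D.r_modEq 1 j).2 (by rwa [pow_one])
    rw [pow_one] at hw
    rw [commutator_rep, hw, show geom D.r s * (p * i') = p * (geom D.r s * i') by ring,
      show p * w * t = p * (w * t) by ring, pow_mul D.A p, pow_mul D.A p]
    exact mul_mem (pow_mem (mem_zpowers _) _) (inv_mem (pow_mem (mem_zpowers _) _))
  have hsup : zpowers g ⊔ L = M := by
    refine le_antisymm (sup_le (zpowers_le.2 hgM) hLM) ?_
    have h1 : L.relIndex M = p := by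
      refine Nat.eq_of_mul_eq_mul_right (m := M.index) (Nat.pos_of_ne_zero index_ne_zero_of_finite) ?_
      rw [relIndex_mul_index hLM, hLi, hidx, pow_two]
    have h2 := relIndex_mul_relIndex L (zpowers g ⊔ L) M le_sup_right (sup_le (zpowers_le.2 hgM) hLM)
    rw [h1] at h2
    rcases hp.out.eq_one_or_self_of_dvd _ ⟨_, h2.symm⟩ with h | h
    · exact absurd (relIndex_eq_one.1 h (mem_sup_left (mem_zpowers g))) hgL
    · rw [h] at h2
      exact relIndex_eq_one.1 ((Nat.mul_eq_left hp.out.ne_zero).1 h2)
  have hMW : ⁅M, M⁆ ≤ W := by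
    have hcen : L.map π ≤ center (G ⧸ W) := by
      rintro _ ⟨l, hl, rfl⟩
      refine mem_center_iff.2 fun q => ?_
      obtain ⟨x, rfl⟩ := QuotientGroup.mk'_surjective W q
      rw [← commutatorElement_eq_one_iff_mul_comm, ← map_commutatorElement]
      exact (QuotientGroup.eq_one_iff _).2 (hLW l hl x)
    have hab : M.map π ≤ centralizer (M.map π : Set (G ⧸ W)) := by
      rw [← hsup, Subgroup.map_sup, MonoidHom.map_zpowers]
      have hc : ∀ Y : Subgroup (G ⧸ W), center (G ⧸ W) ≤ centralizer (Y : Set (G ⧸ W)) :=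
        fun Y => center_le_centralizer _
      have hzc : zpowers (π g) ≤ centralizer ((zpowers (π g) : Subgroup (G ⧸ W)) : Set (G ⧸ W)) :=
        fun x hx => mem_centralizer_iff.2 fun y hy => by
          obtain ⟨i, rfl⟩ := mem_zpowers_iff.1 hx
          obtain ⟨j, rfl⟩ := mem_zpowers_iff.1 hy
          exact (Commute.refl (π g)).zpow_zpow j i
      refine sup_le (le_centralizer_iff.1 (sup_le hzc (le_centralizer_iff.1 ?_))) (hcen.trans (hc _))
      exact le_centralizer_iff.1 (hcen.trans (hc _))
    rw [commutator_le]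
    intro x hx y hy
    rw [← QuotientGroup.eq_one_iff]
    show π ⁅x, y⁆ = 1
    rw [map_commutatorElement, commutatorElement_eq_one_iff_mul_comm]
    exact (mem_centralizer_iff.1 (hab ⟨x, hx, rfl⟩) _ ⟨y, hy, rfl⟩).symm
  have hWc : Nat.card W = p ^ (D.n - 1) := by
    have := D.card_zpowers_A_pow (e := 1) hn 1 hp.out.not_dvd_one
    rw [pow_one, mul_one] at this
    exact (Nat.card_zpowers _).trans this
  -- lower bound
  set C := centralizer ({g} : Set G)
  have hCi : C.index = p ^ D.n := by
    obtain ⟨e, he, hge, -, hi⟩ := D.exists_level_index hodd g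
    obtain rfl : e = 0 := by
      rcases Nat.eq_zero_or_pos e with h | h
      · exact h
      · exact absurd (D.level_antitone h hge) hgL
    simpa using hi
  have hlow : p ^ (D.n - 1) ≤ C.relIndex L := by
    have hlt : Nat.card ↥(C ⊓ L) < Nat.card C := lt_of_le_of_ne (card_le_of_le inf_le_left)
      fun e => hgL ((eq_of_le_of_card_ge inf_le_left e.ge).ge
        (mem_centralizer_singleton_iff.2 rfl : g ∈ C)).2
    obtain ⟨i, hi⟩ := (hG.to_subgroup C).exists_card_eq
    obtain ⟨j, hj⟩ := (hG.to_subgroup (C ⊓ L)).exists_card_eq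
    obtain ⟨k, hk⟩ := hG.exists_card_eq
    obtain ⟨l, hl⟩ := (hG.to_subgroup L).exists_card_eq
    have e1 := C.card_mul_index
    rw [hi, hCi, hk, ← pow_add] at e1
    have e2 := L.card_mul_index
    rw [hl, hLi, hk, ← pow_add] at e2
    have e3 := card_eq_inf_mul_relIndex C L
    rw [hj, hl] at e3
    rw [hi, hj, Nat.pow_lt_pow_iff_right hp.out.one_lt] at hlt
    have e1' := Nat.pow_right_injective hp.out.two_le e1
    have e2' := Nat.pow_right_injective hp.out.two_le e2
    have e4 : p ^ j * p ^ (D.n - 1) ≤ p ^ j * C.relIndex L := by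
      rw [← e3, ← pow_add]
      exact Nat.pow_le_pow_right hp.out.pos (by omega)
    exact Nat.le_of_mul_le_mul_left e4 (pow_pos hp.out.pos j)
  have hlow' : C.relIndex L ≤ Nat.card ↥⁅M, M⁆ := by
    let f : L ⧸ C.subgroupOf L → ↥⁅M, M⁆ := fun q => Quotient.liftOn' q
      (fun x => ⟨⁅(x : G), g⁆, commutator_mem_commutator (hLM x.2) hgM⟩) fun x y h => by
        rw [QuotientGroup.leftRel_apply, mem_subgroupOf, mem_centralizer_singleton_iff] at h
        push_cast at h
        apply Subtype.ext
        show ⁅(x : G), g⁆ = ⁅(y : G), g⁆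
        have e : (y : G) * g * (y : G)⁻¹ = x * g * (x : G)⁻¹ :=
          calc (y : G) * g * (y : G)⁻¹ = x * ((x : G)⁻¹ * y * g) * (y : G)⁻¹ := by group
            _ = x * (g * ((x : G)⁻¹ * y)) * (y : G)⁻¹ := by rw [h]
            _ = x * g * (x : G)⁻¹ := by group
        simp [commutatorElement_def, e]
    refine Nat.card_le_card_of_injective f ?_
    intro q q'
    induction q using QuotientGroup.induction_on with
    | _ x => induction q' using QuotientGroup.induction_on with
      | _ y =>
        intro h
        have e : (x : G) * g * (x : G)⁻¹ = y * g * (y : G)⁻¹ := by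
          have := congrArg Subtype.val h
          simpa [f, commutatorElement_def] using this
        refine QuotientGroup.eq.2 (mem_subgroupOf.2 (mem_centralizer_singleton_iff.2 ?_))
        push_cast
        calc (x : G)⁻¹ * y * g = (x : G)⁻¹ * (y * g * (y : G)⁻¹) * y := by group
          _ = (x : G)⁻¹ * (x * g * (x : G)⁻¹) * y := by rw [e]
          _ = g * ((x : G)⁻¹ * y) := by group
  have hcard : Nat.card ↥(commutator M) = p ^ (D.n - 1) := by
    rw [card_commutator_subgroup]
    exact le_antisymm (hWc ▸ card_le_of_le hMW) (hlow.trans hlow')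
  refine Nat.eq_of_mul_eq_mul_left (n := Nat.card ↥(commutator M) * p)
    (Nat.mul_pos Nat.card_pos hp.out.pos) ?_
  have e4 : Nat.card ↥(commutator M) * p = Nat.card ↥(commutator G) := by
    rw [hcard, D.card_commutator, ← pow_succ, Nat.sub_add_cancel hn]
  rw [mul_right_comm, card_mul_index, e4, card_mul_index, ← hidx, card_mul_index]

end Data

lemma index_commutator_of_le {H : Subgroup G} (L : Subgroup G) (hLH : L ≤ H) :
    (commutator ↥(L.subgroupOf H)).index = (commutator L).index := by
  have e := subgroupOfEquivOfLe hLH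
  rw [← index_map_equiv (commutator ↥(L.subgroupOf H)) e, _root_.commutator_def, map_commutator,
    map_top_of_surjective _ e.surjective, ← _root_.commutator_def]

lemma isMulCommutative_subgroupOf_iff {H : Subgroup G} (L : Subgroup G) (hLH : L ≤ H) :
    IsMulCommutative ↥(L.subgroupOf H) ↔ IsMulCommutative L := by
  have e := subgroupOfEquivOfLe hLH
  exact ⟨fun h => ⟨⟨fun x y => e.symm.injective (by rw [map_mul, map_mul]; exact mul_comm' _ _)⟩⟩,
    fun h => ⟨⟨fun x y => e.injective (by rw [map_mul, map_mul]; exact mul_comm' _ _)⟩⟩⟩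

/-- Non-abelian subgroups have the abelianisation order of `G`; abelian ones lie in abelian ones of
that order and are no larger. -/
theorem subgroup_dichotomy (hodd : p ≠ 2) (hG : IsPGroup p G) (hmc : Cfsg.IsMetacyclic G)
    (L : Subgroup G) :
    (IsMulCommutative L ∧ Nat.card L ≤ (commutator G).index ∧
      ∃ L', L ≤ L' ∧ IsMulCommutative L' ∧ Nat.card L' = (commutator G).index) ∨
    (¬ IsMulCommutative L ∧ (commutator L).index = (commutator G).index) := by
  induction hk : Nat.card G using Nat.strong_induction_on generalizing G with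
  | _ k ih =>
    obtain ⟨D⟩ := data_of_metacyclic hG hmc
    rcases Nat.eq_zero_or_pos D.n with h0 | hn
    · have hab := (D.n_eq_zero_iff hodd).1 h0
      have hi : (commutator G).index = Nat.card G := by
        rw [show commutator G = ⊥ from (commutator_eq_bot_iff_center_eq_top G).2
          (eq_top_iff.2 fun x _ => mem_center_iff.2 fun y => mul_comm' y x), index_bot]
      exact .inl ⟨inferInstance, hi ▸ L.card_le_card_group, ⊤, le_top, inferInstance, by rw [card_top, hi]⟩
    · by_cases hL : L = ⊤
      · subst hL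
        refine .inr ⟨fun h => ?_, ?_⟩
        · have : IsMulCommutative G := ⟨⟨fun x y =>
            congrArg Subtype.val (h.1.1 ⟨x, mem_top x⟩ ⟨y, mem_top y⟩)⟩⟩
          have := (D.n_eq_zero_iff hodd).2 this
          omega
        · rw [← index_map_equiv (commutator ↥(⊤ : Subgroup G)) topEquiv, _root_.commutator_def,
            map_commutator, map_top_of_surjective _ topEquiv.surjective, ← _root_.commutator_def]
      · obtain ⟨M, hM, hLM⟩ := (eq_top_or_exists_le_coatom L).resolve_left hL
        have hidx := D.index_commutator_of_isCoatom hodd hG hn hM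
        have hlt : Nat.card M < k := hk ▸ lt_of_le_of_ne M.card_le_card_group
          (fun e => hM.1 (eq_top_of_card_eq M e))
        have hc : Nat.card ↥(L.subgroupOf M) = Nat.card L :=
          Nat.card_congr (subgroupOfEquivOfLe hLM).toEquiv
        rcases ih _ hlt (hG.to_subgroup M) (isMetacyclic_subgroup hmc M) (L.subgroupOf M) rfl with
          ⟨h1, h2, L', h3, h4, h5⟩ | ⟨h1, h2⟩
        · refine .inl ⟨(isMulCommutative_subgroupOf_iff L hLM).1 h1, ?_, L'.map M.subtype, ?_, ?_, ?_⟩
          · rw [← hc, ← hidx]; exact h2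
          · intro x hx
            exact ⟨⟨x, hLM hx⟩, h3 (mem_subgroupOf.2 hx), rfl⟩
          · rw [← isMulCommutative_subgroupOf_iff (H := M) _ (map_subtype_le L')]
            have e : (L'.map M.subtype).subgroupOf M = L' :=
              comap_map_eq_self_of_injective M.subtype_injective L'
            rw [e]; exact h4
          · rw [← hidx, ← h5]
            exact (Nat.card_congr (equivMapOfInjective _ _ M.subtype_injective).toEquiv).symm
        · exact .inr ⟨fun h => h1 ((isMulCommutative_subgroupOf_iff L hLM).2 h),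
            by rw [← index_commutator_of_le L hLM, h2, hidx]⟩

lemma card_mul_center_le (hodd : p ≠ 2) (hG : IsPGroup p G) (hmc : Cfsg.IsMetacyclic G)
    (R : Subgroup G) : Nat.card R * Nat.card (center R) ≤ (commutator G).index ^ 2 ∧
      (¬ IsMulCommutative R → Nat.card R * Nat.card (center R) = (commutator G).index ^ 2) ∧
      (IsMulCommutative R → (Nat.card R * Nat.card (center R) = (commutator G).index ^ 2 ↔
        Nat.card R = (commutator G).index)) := by
  rcases subgroup_dichotomy hodd hG hmc R with ⟨hab, hle, -⟩ | ⟨hna, hidx⟩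
  · have hc : Nat.card (center R) = Nat.card R := by
      rw [show center R = ⊤ from eq_top_iff.2 fun x _ => mem_center_iff.2 fun y => mul_comm' y x,
        card_top]
    rw [hc, ← pow_two]
    exact ⟨Nat.pow_le_pow_left hle 2, fun h => absurd hab h,
      fun _ => ⟨fun h => Nat.pow_left_injective two_ne_zero h, fun h => by rw [h]⟩⟩
  · obtain ⟨D⟩ := data_of_metacyclic (hG.to_subgroup R) (isMetacyclic_subgroup hmc R)
    have he : Nat.card R * Nat.card (center R) = (commutator G).index ^ 2 := by
      rw [← hidx, D.index_commutator hodd, ← (center R).card_mul_index, D.index_center hodd, two_mul,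
        pow_add]
      ring
    exact ⟨he.le, fun _ => he, fun h => absurd h hna⟩

lemma isMulCommutative_iff_card_le (hodd : p ≠ 2) (hG : IsPGroup p G) (hmc : Cfsg.IsMetacyclic G)
    (L : Subgroup G) : IsMulCommutative L ↔ Nat.card L ≤ (commutator G).index := by
  rcases subgroup_dichotomy hodd hG hmc L with ⟨hab, hle, -⟩ | ⟨hna, hidx⟩
  · exact iff_of_true hab hle
  · refine iff_of_false hna fun h => hna ?_
    obtain ⟨D⟩ := data_of_metacyclic (hG.to_subgroup L) (isMetacyclic_subgroup hmc L)
    refine (D.n_eq_zero_iff hodd).1 ?_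
    have hc := (commutator L).card_mul_index
    rw [D.card_commutator, hidx] at hc
    have hle : p ^ D.n * (commutator G).index ≤ 1 * (commutator G).index := by
      rw [hc, one_mul]; exact h
    by_contra h0
    exact absurd (Nat.le_of_mul_le_mul_right hle (Nat.pos_of_ne_zero index_ne_zero_of_finite))
      (Nat.one_lt_pow h0 hp.out.one_lt).not_ge

lemma maximal_abelian_iff (hodd : p ≠ 2) (hG : IsPGroup p G) (hmc : Cfsg.IsMetacyclic G)
    (L : Subgroup G) : Maximal (fun K : Subgroup G => IsMulCommutative K) L ↔
      Nat.card L = (commutator G).index := by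
  constructor
  · intro h
    rcases subgroup_dichotomy hodd hG hmc L with ⟨-, -, L', hle, hab, hc⟩ | ⟨hna, -⟩
    · rw [le_antisymm hle (h.2 hab hle), hc]
    · exact absurd h.prop hna
  · intro h
    refine ⟨(isMulCommutative_iff_card_le hodd hG hmc L).2 h.le, fun K hK hle => ?_⟩
    exact (eq_of_le_of_card_ge hle
      (h ▸ (isMulCommutative_iff_card_le hodd hG hmc K).1 hK)).ge

lemma cd_le (hodd : p ≠ 2) (hG : IsPGroup p G) (hmc : Cfsg.IsMetacyclic G) (R : Subgroup G) :
    cd R ≤ (commutator G).index ^ 2 := by
  set S := R ⊔ centralizer (R : Set G)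
  refine ((card_mul_card_le R (centralizer (R : Set G))).trans ?_).trans
    (card_mul_center_le hodd hG hmc S).1
  refine Nat.mul_le_mul_left _ ?_
  rw [card_center_eq]
  refine card_le_of_le (le_inf (inf_le_left.trans le_sup_left) ?_)
  refine le_centralizer_iff.1 (sup_le ?_ ?_)
  · exact le_centralizer_iff.1 inf_le_right
  · exact centralizer_le inf_le_left

lemma cd_top (hodd : p ≠ 2) (hG : IsPGroup p G) (hmc : Cfsg.IsMetacyclic G) :
    cd (⊤ : Subgroup G) = (commutator G).index ^ 2 := by
  obtain ⟨D⟩ := data_of_metacyclic hG hmc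
  rw [cd, coe_top, centralizer_univ, card_top, D.index_commutator hodd, ← (center G).card_mul_index,
    D.index_center hodd, two_mul, pow_add]
  ring

/-- The Chermak–Delgado lattice is the interval above the centre. -/
theorem isMaxCD_iff_center_le (hodd : p ≠ 2) (hG : IsPGroup p G) (hmc : Cfsg.IsMetacyclic G)
    (R : Subgroup G) : IsMaxCD R ↔ center G ≤ R := by
  constructor
  · intro h
    rw [← h.double_centralizer]
    exact center_le_centralizer _
  · intro hR
    obtain ⟨D⟩ := data_of_metacyclic hG hmc
    have key : ∀ g : G, IsMaxCD (zpowers g ⊔ center G) := by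
      intro g R'
      refine (cd_le hodd hG hmc R').trans ((cd_top hodd hG hmc).ge.trans ?_)
      obtain ⟨e, he, hge, hmax, hidx⟩ := D.exists_level_index hodd g
      obtain ⟨i, j, rfl⟩ := D.gen g
      rw [cd, cd, coe_top, centralizer_univ, card_top]
      set g' := D.a ^ i * D.b ^ j
      have hC : centralizer ((zpowers g' ⊔ center G : Subgroup G) : Set G) = centralizer {g'} := by
        refine le_antisymm (centralizer_le (Set.singleton_subset_iff.2
          (mem_sup_left (mem_zpowers g')))) (le_centralizer_iff.1 (sup_le ?_ ?_))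
        · refine zpowers_le.2 (mem_centralizer_iff.2 fun x hx => ?_)
          exact mem_centralizer_singleton_iff.1 hx
        · exact center_le_centralizer _
      rw [hC]
      -- the order of `g'` modulo the centre is at least `p ^ (n - e)`
      have hord : p ^ (D.n - e) ∣ orderOf (g' : G ⧸ center G) := by
        obtain ⟨t, ht⟩ := IsPGroup.iff_orderOf.1 (hG.to_quotient (center G)) (g' : G ⧸ center G)
        rw [ht]
        refine pow_dvd_pow p ?_
        by_contra hlt
        have h1 : g' ^ p ^ t ∈ center G := by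
          rw [← QuotientGroup.eq_one_iff, QuotientGroup.mk_pow, ← ht, pow_orderOf_eq_one]
        rw [← D.level_eq_center hodd, D.pow_rep, D.mem_level hodd le_rfl] at h1
        obtain ⟨hi', hj'⟩ := h1
        rw [mul_comm i, pow_dvd_geom_mul hodd (pow_modEq_one D.r_modEq j), mul_comm _ i] at hi'
        have red : ∀ x, p ^ D.n ∣ x * p ^ t → p ^ (D.n - t) ∣ x := fun x hx => by
          rw [show D.n = (D.n - t) + t by omega, pow_add] at hx
          exact Nat.dvd_of_mul_dvd_mul_right (pow_pos hp.out.pos t) hx
        exact hmax (by omega) ((D.mem_level hodd (by omega)).2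
          ⟨(pow_dvd_pow p (by omega)).trans (red i hi'), (pow_dvd_pow p (by omega)).trans (red j hj')⟩)
      have hcard : p ^ (D.n - e) * Nat.card (center G) ≤ Nat.card ↥(zpowers g' ⊔ center G) := by
        rw [← card_mul_index ((center G).subgroupOf (zpowers g' ⊔ center G)),
          Nat.card_congr (subgroupOfEquivOfLe (le_sup_right : center G ≤ _)).toEquiv, mul_comm]
        refine Nat.mul_le_mul_left _ ?_
        refine le_trans (Nat.le_of_dvd (orderOf_pos _) hord) ?_
        rw [← Nat.card_zpowers]
        let φ := (QuotientGroup.mk' (center G)).comp (zpowers g' ⊔ center G).subtype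
        have hker : φ.ker = (center G).subgroupOf (zpowers g' ⊔ center G) := by
          ext x
          rw [MonoidHom.mem_ker, mem_subgroupOf]
          exact QuotientGroup.eq_one_iff (x : G)
        rw [← hker, index_ker]
        exact card_le_of_le (zpowers_le.2 ⟨⟨g', mem_sup_left (mem_zpowers g')⟩, rfl⟩)
      calc Nat.card G * Nat.card (center G)
          = Nat.card (centralizer {g'}) * p ^ (D.n - e) * Nat.card (center G) := by
            rw [← hidx, card_mul_index]
        _ ≤ _ := by
            rw [mul_assoc, mul_comm (Nat.card (centralizer {g'}))]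
            exact Nat.mul_le_mul_right _ hcard
    have hR' : R = sSup ((fun g => zpowers g ⊔ center G) '' (R : Set G)) := by
      refine le_antisymm (fun x hx => ?_) (sSup_le ?_)
      · exact le_sSup (s := (fun g => zpowers g ⊔ center G) '' (R : Set G)) ⟨x, hx, rfl⟩
          (mem_sup_left (mem_zpowers x))
      · rintro _ ⟨g, hg, rfl⟩
        exact sup_le (zpowers_le.2 hg) hR
    rw [hR']
    refine IsMaxCD.sSup (Set.Nonempty.image _ ⟨1, one_mem R⟩) ?_
    rintro _ ⟨g, -, rfl⟩
    exact key g

/-- For non-abelian `G` the Frattini subgroup is the first level. -/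
theorem frattini_eq_level (hodd : p ≠ 2) (hG : IsPGroup p G) (D : Data p G) (hn : 1 ≤ D.n) :
    frattini G = D.level 1 := by
  refine le_antisymm ?_ ?_
  · have hnorm : (D.level 1).Normal := by
      rw [← D.closure_pow_eq_level hodd 1]
      refine normalizer_eq_top_iff.1 (eq_top_iff.2 (le_normalizer_closure_iff.2 ?_))
      rintro x - _ ⟨y, rfl⟩
      exact subset_closure ⟨x * y * x⁻¹, conj_pow⟩
    refine @Cfsg.Agent.S0013.result G _ _ p hp hG (D.level 1) hnorm ?_ fun x => ?_
    · rw [D.commutator_eq, zpowers_le]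
      refine ⟨p ^ D.c * D.u, 0, ?_, dvd_zero _, by simp [Data.A]⟩
      exact (pow_dvd_pow p D.hc).mul_right _
    · rw [← D.closure_pow_eq_level hodd 1]
      exact subset_closure ⟨x, by rw [pow_one]⟩
  · rw [← D.closure_pow_eq_level hodd 1, closure_le]
    rintro _ ⟨y, rfl⟩
    show _ ∈ frattini G
    rw [frattini, Order.radical]
    simp only [Subgroup.mem_iInf]
    intro M hM
    obtain ⟨hn', hidx⟩ := normal_index_of_isCoatom hG hM
    rw [pow_one, ← hidx]
    exact pow_index_mem M y

end CfsgLib.MetacyclicOdd
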