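import Cfsg.Agent.Lib.MetacyclicOdd.Geom
import Mathlib.GroupTheory.Sylow
import Mathlib.GroupTheory.SpecificGroups.Cyclic
import Mathlib.GroupTheory.Commutator.Basic
import Mathlib.FieldTheory.Finite.Basic

/-!
Metacyclic `p`-groups, `p` odd, in coordinates `a ^ i * b ^ j` with `b a b⁻¹ = a ^ (1 + p ^ c u)`.
-/

namespace CfsgLib.MetacyclicOdd

open Subgroup
open scoped commutatorElement

/-- Coordinates for a metacyclic `p`-group. -/
structure Data (p : ℕ) (G : Type*) [Group G] where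
  /-- generator of the cyclic normal subgroup -/
  a : G
  /-- lift of a generator of the cyclic quotient -/
  b : G
  /-- `b` acts on `⟨a⟩` as `x ↦ x ^ (1 + p ^ c * u)` -/
  c : ℕ
  /-- the derived subgroup has order `p ^ n` -/
  n : ℕ
  /-- the unit in the action -/
  u : ℕ
  hc : 1 ≤ c
  hu : ¬ p ∣ u
  conj : b * a * b⁻¹ = a ^ (1 + p ^ c * u)
  hord : orderOf (a ^ p ^ c) = p ^ n
  gen : ∀ g : G, ∃ i j : ℕ, g = a ^ i * b ^ j

variable {G : Type*} [Group G] {p : ℕ} [hp : Fact p.Prime]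

namespace Data

variable (D : Data p G)

/-- The multiplier. -/
def r : ℕ := 1 + p ^ D.c * D.u

/-- The standard generator of the derived subgroup. -/
def A : G := D.a ^ (p ^ D.c * D.u)

lemma r_modEq : D.r ≡ 1 [MOD p] := by
  obtain ⟨c', hc'⟩ : ∃ c', D.c = c' + 1 := ⟨D.c - 1, by have := D.hc; omega⟩
  simp [r, hc', pow_succ', Nat.ModEq, mul_assoc]

lemma orderOf_A : orderOf D.A = p ^ D.n := by
  rw [A, pow_mul, ← D.hord]
  refine orderOf_pow_orderOf_coprime ?_
  rw [D.hord]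
  exact Nat.Coprime.pow_left _ (hp.out.coprime_iff_not_dvd.2 D.hu)
where
  orderOf_pow_orderOf_coprime {x : G} {m : ℕ} (h : (orderOf x).Coprime m) :
      orderOf (x ^ m) = orderOf x := Nat.Coprime.orderOf_pow h

lemma A_pow_eq_one {k : ℕ} : D.A ^ k = 1 ↔ p ^ D.n ∣ k := by
  rw [← orderOf_dvd_iff_pow_eq_one, orderOf_A]

lemma A_pow_eq_pow {k l : ℕ} : D.A ^ k = D.A ^ l ↔ k ≡ l [MOD p ^ D.n] := by
  rw [pow_eq_pow_iff_modEq, orderOf_A]

lemma conj_a_pow (i : ℕ) : D.b * D.a ^ i * D.b⁻¹ = D.a ^ (D.r * i) := by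
  rw [← conj_pow, D.conj, ← pow_mul]; rfl

lemma bpow_mul (j i : ℕ) : D.b ^ j * D.a ^ i = D.a ^ (D.r ^ j * i) * D.b ^ j := by
  induction j generalizing i with
  | zero => simp
  | succ j ih =>
    have e : D.b * D.a ^ i = D.a ^ (D.r * i) * D.b := by rw [← conj_a_pow, inv_mul_cancel_right]
    rw [pow_succ, mul_assoc, e, ← mul_assoc, ih, mul_assoc, ← pow_succ, pow_succ D.r, mul_assoc]

lemma mul_rep (i j i' j' : ℕ) :
    D.a ^ i * D.b ^ j * (D.a ^ i' * D.b ^ j') = D.a ^ (i + D.r ^ j * i') * D.b ^ (j + j') := by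
  rw [pow_add, pow_add, ← mul_assoc, mul_assoc (D.a ^ i), bpow_mul, mul_assoc, mul_assoc,
    mul_assoc]

lemma pow_rep (i j N : ℕ) :
    (D.a ^ i * D.b ^ j) ^ N = D.a ^ (i * geom (D.r ^ j) N) * D.b ^ (j * N) := by
  induction N with
  | zero => simp
  | succ N ih => rw [pow_succ, ih, mul_rep, geom_succ, ← pow_mul, mul_add, Nat.mul_succ]; ring_nf

lemma apow_r (j i : ℕ) : D.a ^ (D.r ^ j * i) = D.A ^ (geom D.r j * i) * D.a ^ i := by
  rw [A, ← pow_mul, ← pow_add]
  congr 1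
  rw [r, pow_eq_geom]
  ring

lemma commute_A_a (k : ℕ) : Commute (D.A ^ k) D.a := by
  rw [A, ← pow_mul]; exact (Commute.refl D.a).pow_left _

/-- The commutator of two elements in coordinates. -/
lemma commutator_rep (t s i j : ℕ) :
    ⁅D.a ^ t * D.b ^ s, D.a ^ i * D.b ^ j⁆ = D.A ^ (geom D.r s * i) * (D.A ^ (geom D.r j * t))⁻¹ := by
  have h1 : D.a ^ t * D.b ^ s * (D.a ^ i * D.b ^ j) =
      D.A ^ (geom D.r s * i) * (D.a ^ (t + i) * D.b ^ (s + j)) := by
    rw [mul_rep, pow_add, apow_r, ← mul_assoc (D.a ^ t), ← ((D.commute_A_a _).pow_right t).eq]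
    simp only [mul_assoc, ← pow_add]
  have h2 : D.a ^ i * D.b ^ j * (D.a ^ t * D.b ^ s) =
      D.A ^ (geom D.r j * t) * (D.a ^ (t + i) * D.b ^ (s + j)) := by
    rw [mul_rep, pow_add, apow_r, ← mul_assoc (D.a ^ i), ← ((D.commute_A_a _).pow_right i).eq,
      add_comm j s, add_comm t i]
    simp only [mul_assoc, ← pow_add]
  have e : ∀ x y : G, ⁅x, y⁆ = x * y * (y * x)⁻¹ := fun x y => by
    simp [commutatorElement_def, mul_assoc]
  rw [e, h1, h2]
  simp [mul_assoc]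

lemma commutator_a (i j : ℕ) : ⁅D.a, D.a ^ i * D.b ^ j⁆ = (D.A ^ geom D.r j)⁻¹ := by
  simpa using D.commutator_rep 1 0 i j

lemma commutator_b (i j : ℕ) : ⁅D.b, D.a ^ i * D.b ^ j⁆ = D.A ^ i := by
  simpa using D.commutator_rep 0 1 i j

lemma rep_modEq (hodd : p ≠ 2) {i j i' j' : ℕ} (h : D.a ^ i * D.b ^ j = D.a ^ i' * D.b ^ j') :
    i ≡ i' [MOD p ^ D.n] ∧ j ≡ j' [MOD p ^ D.n] := by
  have h1 := D.commutator_a i j
  have h2 := D.commutator_b i j
  rw [h, commutator_a, inv_inj, A_pow_eq_pow] at h1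
  rw [h, commutator_b, A_pow_eq_pow] at h2
  refine ⟨h2.symm, ?_⟩
  have key : ∀ k l, k ≤ l → geom D.r k ≡ geom D.r l [MOD p ^ D.n] → k ≡ l [MOD p ^ D.n] := by
    intro k l hkl hh
    obtain ⟨d, rfl⟩ := Nat.exists_eq_add_of_le hkl
    rw [geom_add] at hh
    have h0 : p ^ D.n ∣ D.r ^ k * geom D.r d := by
      have := (Nat.modEq_iff_dvd' (Nat.le_add_right _ _)).1 hh
      simpa using this
    have hcop : (p ^ D.n).Coprime (D.r ^ k) :=
      Nat.Coprime.pow _ _ (hp.out.coprime_iff_not_dvd.2 fun hd =>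
        hp.out.not_dvd_one ((D.r_modEq.dvd_iff dvd_rfl).1 hd))
    have h' := (pow_dvd_geom hodd D.r_modEq D.n d).1 (hcop.dvd_of_dvd_mul_left h0)
    exact (Nat.modEq_iff_dvd' (Nat.le_add_right _ _)).2 (by simpa using h')
  rcases le_total j j' with hle | hle
  · exact key j j' hle h1.symm
  · exact (key j' j hle h1).symm

/-- Elements whose coordinates are divisible by `p ^ s`. -/
def level [Finite G] (s : ℕ) : Subgroup G where
  carrier := {g | ∃ i j, p ^ s ∣ i ∧ p ^ s ∣ j ∧ g = D.a ^ i * D.b ^ j}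
  one_mem' := ⟨0, 0, dvd_zero _, dvd_zero _, by simp⟩
  mul_mem' := by
    rintro _ _ ⟨i, j, hi, hj, rfl⟩ ⟨i', j', hi', hj', rfl⟩
    exact ⟨_, _, dvd_add hi (hi'.mul_left _), dvd_add hj hj', D.mul_rep i j i' j'⟩
  inv_mem' := by
    intro g hg
    have h : ∀ N, ∃ i j, p ^ s ∣ i ∧ p ^ s ∣ j ∧ g ^ N = D.a ^ i * D.b ^ j := by
      intro N
      obtain ⟨i, j, hi, hj, rfl⟩ := hg
      exact ⟨_, _, hi.mul_right _, hj.mul_right _, D.pow_rep i j N⟩
    have hN : g⁻¹ = g ^ (orderOf g - 1) := by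
      refine inv_eq_of_mul_eq_one_right ?_
      rw [← pow_succ', Nat.sub_add_cancel (orderOf_pos g), pow_orderOf_eq_one]
    rw [hN]; exact h _

variable [Finite G] (hodd : p ≠ 2)
include hodd

lemma mem_level {s i j : ℕ} (hs : s ≤ D.n) :
    D.a ^ i * D.b ^ j ∈ D.level s ↔ p ^ s ∣ i ∧ p ^ s ∣ j := by
  refine ⟨fun ⟨i', j', hi, hj, e⟩ => ?_, fun ⟨hi, hj⟩ => ⟨i, j, hi, hj, rfl⟩⟩
  obtain ⟨e1, e2⟩ := D.rep_modEq hodd e
  exact ⟨((e1.of_dvd (pow_dvd_pow p hs)).dvd_iff dvd_rfl).2 hi,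
    ((e2.of_dvd (pow_dvd_pow p hs)).dvd_iff dvd_rfl).2 hj⟩

omit hodd in
lemma level_antitone {s t : ℕ} (h : s ≤ t) : D.level t ≤ D.level s := by
  rintro _ ⟨i, j, hi, hj, rfl⟩
  exact ⟨i, j, (pow_dvd_pow p h).trans hi, (pow_dvd_pow p h).trans hj, rfl⟩

omit hodd in
lemma level_zero : D.level 0 = ⊤ :=
  eq_top_iff.2 fun g _ => by obtain ⟨i, j, rfl⟩ := D.gen g; exact ⟨i, j, by simp, by simp, rfl⟩

lemma inv_mul_mem_level {s i j i' j' : ℕ} (hs : s ≤ D.n) :
    (D.a ^ i * D.b ^ j)⁻¹ * (D.a ^ i' * D.b ^ j') ∈ D.level s ↔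
      i ≡ i' [MOD p ^ s] ∧ j ≡ j' [MOD p ^ s] := by
  obtain ⟨x, y, hxy⟩ := D.gen ((D.a ^ i * D.b ^ j)⁻¹ * (D.a ^ i' * D.b ^ j'))
  rw [hxy, D.mem_level hodd hs]
  have e := hxy
  rw [inv_mul_eq_iff_eq_mul, mul_rep] at e
  obtain ⟨e1, e2⟩ := D.rep_modEq hodd e
  have e1' := e1.of_dvd (pow_dvd_pow p hs)
  have e2' := e2.of_dvd (pow_dvd_pow p hs)
  have hcop : (p ^ s).Coprime (D.r ^ j) :=
    Nat.Coprime.pow _ _ (hp.out.coprime_iff_not_dvd.2 fun hd =>
      hp.out.not_dvd_one ((D.r_modEq.dvd_iff dvd_rfl).1 hd))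
  constructor
  · rintro ⟨hx, hy⟩
    exact ⟨(e1'.trans (by simpa using (Nat.modEq_zero_iff_dvd.2 (hx.mul_left (D.r ^ j))).add_left i)).symm,
      (e2'.trans (by simpa using (Nat.modEq_zero_iff_dvd.2 hy).add_left j)).symm⟩
  · rintro ⟨hx, hy⟩
    constructor
    · refine hcop.dvd_of_dvd_mul_left (Nat.modEq_zero_iff_dvd.1 ?_)
      exact Nat.ModEq.add_left_cancel' i (by simpa using e1'.symm.trans hx.symm)
    · refine Nat.modEq_zero_iff_dvd.1 ?_
      exact Nat.ModEq.add_left_cancel' j (by simpa using e2'.symm.trans hy.symm)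

lemma index_level {s : ℕ} (hs : s ≤ D.n) : (D.level s).index = p ^ (2 * s) := by
  let F : Fin (p ^ s) × Fin (p ^ s) → G ⧸ D.level s := fun x =>
    QuotientGroup.mk (D.a ^ (x.1 : ℕ) * D.b ^ (x.2 : ℕ))
  have hF : Function.Bijective F := by
    constructor
    · rintro ⟨i, j⟩ ⟨i', j'⟩ h
      obtain ⟨h1, h2⟩ := (D.inv_mul_mem_level hodd hs).1 (QuotientGroup.eq.1 h)
      exact Prod.ext (Fin.ext (h1.eq_of_lt_of_lt i.2 i'.2)) (Fin.ext (h2.eq_of_lt_of_lt j.2 j'.2))
    · intro q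
      obtain ⟨g, rfl⟩ := QuotientGroup.mk_surjective q
      obtain ⟨i, j, rfl⟩ := D.gen g
      refine ⟨(⟨i % p ^ s, Nat.mod_lt _ (pow_pos hp.out.pos s)⟩,
        ⟨j % p ^ s, Nat.mod_lt _ (pow_pos hp.out.pos s)⟩), QuotientGroup.eq.2 ?_⟩
      exact (D.inv_mul_mem_level hodd hs).2 ⟨Nat.mod_modEq i _, Nat.mod_modEq j _⟩
  rw [index, ← Nat.card_congr (Equiv.ofBijective F hF), Nat.card_prod, Nat.card_fin, ← pow_add,
    two_mul]

omit hodd in
lemma commutator_mem_zpowers (x g : G) : ⁅x, g⁆ ∈ zpowers D.A := by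
  obtain ⟨t, s, rfl⟩ := D.gen x
  obtain ⟨i, j, rfl⟩ := D.gen g
  rw [commutator_rep]
  exact mul_mem (pow_mem (mem_zpowers _) _) (inv_mem (pow_mem (mem_zpowers _) _))

omit hodd in
lemma commutator_eq : commutator G = zpowers D.A := by
  refine le_antisymm ?_ (zpowers_le.2 ?_)
  · rw [_root_.commutator_def, commutator_le]
    exact fun x _ g _ => D.commutator_mem_zpowers x g
  · have := commutator_mem_commutator (mem_top D.b) (mem_top (D.a ^ 1 * D.b ^ 0))
    rw [commutator_b, pow_one] at this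
    exact this

omit hodd in
lemma card_commutator : Nat.card ↥(commutator G) = p ^ D.n := by
  rw [D.commutator_eq, Nat.card_zpowers, D.orderOf_A]

omit hodd in
lemma n_eq {n : ℕ} (h : Nat.card ↥(commutator G) = p ^ n) : D.n = n :=
  Nat.pow_right_injective (a := p) hp.out.two_le ((card_commutator D).symm.trans h)

omit hodd in
/-- The index of a centraliser is the number of commutators. -/
lemma index_centralizer_eq_card (g : G) :
    (centralizer ({g} : Set G)).index = (Set.range fun x : G => ⁅x, g⁆).ncard := by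
  rw [← Nat.card_coe_set_eq]
  let f : G ⧸ centralizer ({g} : Set G) → Set.range fun x : G => ⁅x, g⁆ := fun q =>
    Quotient.liftOn' q (fun x => ⟨⁅x, g⁆, x, rfl⟩) fun x y h => by
      rw [QuotientGroup.leftRel_apply, mem_centralizer_singleton_iff] at h
      apply Subtype.ext
      show ⁅x, g⁆ = ⁅y, g⁆
      have e : y * g * y⁻¹ = x * g * x⁻¹ :=
        calc y * g * y⁻¹ = x * (x⁻¹ * y * g) * y⁻¹ := by group
          _ = x * (g * (x⁻¹ * y)) * y⁻¹ := by rw [h]
          _ = x * g * x⁻¹ := by group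
      simp [commutatorElement_def, e]
  refine Nat.card_congr (Equiv.ofBijective f ⟨?_, ?_⟩)
  · intro q q'
    induction q using QuotientGroup.induction_on with
    | _ x => induction q' using QuotientGroup.induction_on with
      | _ y =>
        intro h
        have e : x * g * x⁻¹ = y * g * y⁻¹ := by
          have := congrArg Subtype.val h
          simpa [f, commutatorElement_def] using this
        refine QuotientGroup.eq.2 (mem_centralizer_singleton_iff.2 ?_)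
        calc x⁻¹ * y * g = x⁻¹ * (y * g * y⁻¹) * y := by group
          _ = x⁻¹ * (x * g * x⁻¹) * y := by rw [e]
          _ = g * (x⁻¹ * y) := by group
  · rintro ⟨_, x, rfl⟩
    exact ⟨QuotientGroup.mk x, rfl⟩

omit hodd in
lemma card_zpowers_A_pow {e : ℕ} (he : e ≤ D.n) (w : ℕ) (hw : ¬ p ∣ w) :
    orderOf (D.A ^ (p ^ e * w)) = p ^ (D.n - e) := by
  rw [orderOf_pow, orderOf_A]
  have : (p ^ D.n).gcd (p ^ e * w) = p ^ e := by
    rw [Nat.Coprime.gcd_mul_right_cancel_right (p ^ e)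
      ((hp.out.coprime_iff_not_dvd.2 hw).symm.pow_right _)]
    exact Nat.gcd_eq_right (pow_dvd_pow p he)
  rw [this, Nat.pow_div he hp.out.pos]

/-- Class sizes. -/
lemma index_centralizer {e i j : ℕ} (he : e ≤ D.n) (hi : p ^ e ∣ i) (hj : p ^ e ∣ j)
    (hmax : e < D.n → ¬ (p ^ (e + 1) ∣ i ∧ p ^ (e + 1) ∣ j)) :
    (centralizer ({D.a ^ i * D.b ^ j} : Set G)).index = p ^ (D.n - e) := by
  rw [index_centralizer_eq_card]
  set R := Set.range fun x : G => ⁅x, D.a ^ i * D.b ^ j⁆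
  have hle : R.ncard ≤ p ^ (D.n - e) := by
    have hsub : R ⊆ (zpowers (D.A ^ p ^ e) : Set G) := by
      rintro _ ⟨x, rfl⟩
      obtain ⟨t, s, rfl⟩ := D.gen x
      obtain ⟨i', rfl⟩ := hi
      obtain ⟨w, hw⟩ := (pow_dvd_geom hodd D.r_modEq e j).2 hj
      show ⁅_, _⁆ ∈ _
      rw [commutator_rep, hw, show geom D.r s * (p ^ e * i') = p ^ e * (geom D.r s * i') by ring,
        show p ^ e * w * t = p ^ e * (w * t) by ring, pow_mul D.A (p ^ e), pow_mul D.A (p ^ e)]
      exact mul_mem (pow_mem (mem_zpowers _) _) (inv_mem (pow_mem (mem_zpowers _) _))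
    refine (Set.ncard_le_ncard hsub (Set.toFinite _)).trans ?_
    rw [← Nat.card_coe_set_eq]
    have := D.card_zpowers_A_pow he 1 hp.out.not_dvd_one
    rw [mul_one] at this
    exact le_of_eq ((Nat.card_zpowers _).trans this)
  refine le_antisymm hle ?_
  rcases he.eq_or_lt with rfl | hlt
  · rw [Nat.sub_self, pow_zero]
    exact (Set.ncard_pos (Set.toFinite _)).2 ⟨_, 1, rfl⟩
  have key : ∀ f : Fin (p ^ (D.n - e)) → G, (∀ k, f k ∈ R) → Function.Injective f →
      p ^ (D.n - e) ≤ R.ncard := fun f hf hinj => by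
    calc p ^ (D.n - e) = Nat.card (Fin (p ^ (D.n - e))) := (Nat.card_fin _).symm
      _ ≤ Nat.card R := Nat.card_le_card_of_injective (fun k => ⟨f k, hf k⟩)
          fun a b h => hinj (Subtype.mk.inj h)
      _ = R.ncard := Nat.card_coe_set_eq R
  by_cases hi1 : p ^ (e + 1) ∣ i
  · have hj1 : ¬ p ^ (e + 1) ∣ j := fun h => hmax hlt ⟨hi1, h⟩
    refine key (fun k => ⁅D.a ^ (k : ℕ) * D.b ^ 0, D.a ^ i * D.b ^ j⁆) (fun k => ⟨_, rfl⟩) ?_
    intro k l h
    simp only [D.commutator_rep] at h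
    simp only [geom_zero, zero_mul, pow_zero, one_mul, inv_inj, A_pow_eq_pow] at h
    obtain ⟨w, hw⟩ := (pow_dvd_geom hodd D.r_modEq e j).2 hj
    have hwn : ¬ p ∣ w := fun hd => hj1 ((pow_dvd_geom hodd D.r_modEq (e + 1) j).1
      (by rw [hw, pow_succ]; exact Nat.mul_dvd_mul_left _ hd))
    rw [hw, show p ^ D.n = p ^ e * p ^ (D.n - e) by rw [← pow_add, Nat.add_sub_cancel' he],
      mul_assoc, mul_assoc] at h
    have h' := Nat.ModEq.mul_left_cancel' (pow_ne_zero e hp.out.ne_zero) h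
    exact Fin.ext ((Nat.ModEq.cancel_left_of_coprime
      ((hp.out.coprime_iff_not_dvd.2 hwn).pow_left _) h').eq_of_lt_of_lt k.2 l.2)
  · refine key (fun k => ⁅D.a ^ 0 * D.b ^ (k : ℕ), D.a ^ i * D.b ^ j⁆) (fun k => ⟨_, rfl⟩) ?_
    intro k l h
    simp only [D.commutator_rep] at h
    simp only [mul_zero, pow_zero, inv_one, mul_one, A_pow_eq_pow] at h
    obtain ⟨i', rfl⟩ := hi
    have hwn : ¬ p ∣ i' := fun hd => hi1 (by rw [pow_succ]; exact Nat.mul_dvd_mul_left _ hd)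
    rw [show p ^ D.n = p ^ e * p ^ (D.n - e) by rw [← pow_add, Nat.add_sub_cancel' he],
      mul_left_comm, mul_left_comm (geom D.r l)] at h
    have h' := Nat.ModEq.mul_left_cancel' (pow_ne_zero e hp.out.ne_zero) h
    have h'' := Nat.ModEq.cancel_right_of_coprime
      ((hp.out.coprime_iff_not_dvd.2 hwn).pow_left _) h'
    have hb : ∀ k l : ℕ, k ≤ l → l < p ^ (D.n - e) →
        geom D.r k ≡ geom D.r l [MOD p ^ (D.n - e)] → k = l := by
      intro k l hkl hl hh
      obtain ⟨d, rfl⟩ := Nat.exists_eq_add_of_le hkl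
      rw [geom_add] at hh
      have h0 := (Nat.modEq_iff_dvd' (Nat.le_add_right _ _)).1 hh
      rw [Nat.add_sub_cancel_left] at h0
      have hcop : (p ^ (D.n - e)).Coprime (D.r ^ k) :=
        Nat.Coprime.pow _ _ (hp.out.coprime_iff_not_dvd.2 fun hd =>
          hp.out.not_dvd_one ((D.r_modEq.dvd_iff dvd_rfl).1 hd))
      have := (pow_dvd_geom hodd D.r_modEq _ d).1 (hcop.dvd_of_dvd_mul_left h0)
      have := Nat.eq_zero_of_dvd_of_lt this (by omega)
      omega
    rcases le_total (k : ℕ) l with hle' | hle'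
    · exact Fin.ext (hb _ _ hle' l.2 h'')
    · exact Fin.ext (hb _ _ hle' k.2 h''.symm).symm

lemma exists_level_index (g : G) : ∃ e ≤ D.n, g ∈ D.level e ∧
    (e < D.n → g ∉ D.level (e + 1)) ∧ (centralizer ({g} : Set G)).index = p ^ (D.n - e) := by
  classical
  obtain ⟨i, j, rfl⟩ := D.gen g
  let P : ℕ → Prop := fun e => p ^ e ∣ i ∧ p ^ e ∣ j
  set e := Nat.findGreatest P D.n
  have he : e ≤ D.n := Nat.findGreatest_le D.n
  have hP : P e := Nat.findGreatest_spec (m := 0) (Nat.zero_le _) ⟨by simp, by simp⟩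
  have hmax : e < D.n → ¬ P (e + 1) := fun h =>
    Nat.findGreatest_is_greatest (Nat.lt_succ_self e) (by omega)
  exact ⟨e, he, (D.mem_level hodd he).2 hP, fun h hm => hmax h ((D.mem_level hodd (by omega)).1 hm),
    D.index_centralizer hodd he hP.1 hP.2 hmax⟩

lemma mem_level_iff_index_le {s : ℕ} (hs : s ≤ D.n) (g : G) :
    g ∈ D.level s ↔ (centralizer ({g} : Set G)).index ≤ p ^ (D.n - s) := by
  obtain ⟨e, he, hge, hmax, hidx⟩ := D.exists_level_index hodd g
  rw [hidx, Nat.pow_le_pow_iff_right hp.out.one_lt]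
  constructor
  · intro h
    by_contra hcon
    exact hmax (by omega) (D.level_antitone (show e + 1 ≤ s by omega) h)
  · intro h
    exact D.level_antitone (show s ≤ e by omega) hge

lemma level_eq_center : D.level D.n = center G := by
  ext g
  rw [D.mem_level_iff_index_le hodd le_rfl, Nat.sub_self, pow_zero]
  constructor
  · intro h
    have h1 : (centralizer ({g} : Set G)).index = 1 :=
      le_antisymm h (Nat.pos_of_ne_zero index_ne_zero_of_finite)
    rw [index_eq_one] at h1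
    exact mem_center_iff.2 fun x =>
      mem_centralizer_singleton_iff.1 (h1 ▸ mem_top x : x ∈ centralizer ({g} : Set G))
  · intro h
    exact (index_eq_one.2 (eq_top_iff.2 fun x _ =>
      mem_centralizer_singleton_iff.2 (mem_center_iff.1 h x))).le

lemma index_center : (center G).index = p ^ (2 * D.n) := by
  rw [← D.level_eq_center hodd, D.index_level hodd le_rfl]

lemma index_commutator : (commutator G).index = Nat.card (center G) * p ^ D.n := by
  refine Nat.eq_of_mul_eq_mul_left (n := Nat.card ↥(commutator G)) Nat.card_pos ?_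
  rw [card_mul_index, D.card_commutator, ← (center G).card_mul_index, D.index_center hodd,
    two_mul, pow_add]
  ring

lemma card_level {s : ℕ} (hs : s ≤ D.n) :
    Nat.card (D.level s) = Nat.card (center G) * p ^ (2 * (D.n - s)) := by
  refine Nat.eq_of_mul_eq_mul_right (m := p ^ (2 * s)) (pow_pos hp.out.pos _) ?_
  rw [mul_assoc, ← pow_add, show 2 * (D.n - s) + 2 * s = 2 * D.n by omega, ← D.index_center hodd,
    card_mul_index, ← D.index_level hodd hs, card_mul_index]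

lemma closure_pow_eq_level (s : ℕ) :
    closure {x : G | ∃ y : G, y ^ p ^ s = x} = D.level s := by
  refine le_antisymm ((closure_le _).2 ?_) ?_
  · rintro _ ⟨y, rfl⟩
    obtain ⟨i, j, rfl⟩ := D.gen y
    refine ⟨_, _, ?_, dvd_mul_left _ j, D.pow_rep i j _⟩
    exact ((pow_dvd_geom hodd (pow_modEq_one D.r_modEq j) s _).2 dvd_rfl).mul_left i
  · rintro _ ⟨i, j, ⟨i', rfl⟩, ⟨j', rfl⟩, rfl⟩
    exact mul_mem (subset_closure ⟨D.a ^ i', by rw [← pow_mul, mul_comm]⟩)
      (subset_closure ⟨D.b ^ j', by rw [← pow_mul, mul_comm]⟩)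

end Data

/-- Every metacyclic `p`-group, `p` odd, has coordinates. -/
lemma exists_data [Finite G] (hG : IsPGroup p G) (N : Subgroup G) [N.Normal] (hN : IsCyclic N)
    (hQ : IsCyclic (G ⧸ N)) : Nonempty (Data p G) := by
  obtain ⟨a, rfl⟩ := (Subgroup.isCyclic_iff_exists_zpowers_eq_top N).1 hN
  obtain ⟨q, hq⟩ := hQ.exists_generator
  obtain ⟨b, rfl⟩ := QuotientGroup.mk_surjective q
  have hconj : b * a * b⁻¹ ∈ zpowers a := Normal.conj_mem inferInstance a (mem_zpowers a) b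
  obtain ⟨r₀, hr₀⟩ := mem_powers_iff_mem_zpowers.2 hconj
  have hgen : ∀ g : G, ∃ i j : ℕ, g = a ^ i * b ^ j := fun g => by
    obtain ⟨j, hj⟩ := mem_powers_iff_mem_zpowers.2 (hq (g : G ⧸ zpowers a))
    have h1 : (b ^ j)⁻¹ * g ∈ zpowers a := QuotientGroup.eq.1 (by rw [QuotientGroup.mk_pow]; exact hj)
    have h2 : g * (b ^ j)⁻¹ ∈ zpowers a := (inferInstance : (zpowers a).Normal).mem_comm h1
    obtain ⟨i, hi⟩ := mem_powers_iff_mem_zpowers.2 h2
    exact ⟨i, j, by simp only at hi; rw [hi, inv_mul_cancel_right]⟩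
  simp only at hr₀
  by_cases hcomm : b * a * b⁻¹ = a
  · obtain ⟨m, hm⟩ := IsPGroup.iff_orderOf.1 hG a
    refine ⟨⟨a, b, m + 1, 0, 1, by omega, hp.out.not_dvd_one, ?_, ?_, hgen⟩⟩
    · have h1 : a ^ p ^ (m + 1) = 1 := orderOf_dvd_iff_pow_eq_one.1 (hm ▸ pow_dvd_pow p (by omega))
      rw [hcomm, mul_one, pow_add, pow_one, h1, mul_one]
    · rw [pow_zero, orderOf_eq_one_iff]
      exact orderOf_dvd_iff_pow_eq_one.1 (hm ▸ pow_dvd_pow p (by omega))
  obtain ⟨m, hm⟩ := IsPGroup.iff_orderOf.1 hG a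
  obtain ⟨k, hk⟩ := IsPGroup.iff_orderOf.1 hG b
  have hm1 : 1 ≤ m := by
    rcases Nat.eq_zero_or_pos m with rfl | h
    · rw [pow_zero, orderOf_eq_one_iff] at hm
      exact absurd (by rw [hm]; simp) hcomm
    · exact h
  -- `r₀ ≡ 1 (mod p)`
  have hpow : ∀ j, b ^ j * a * (b ^ j)⁻¹ = a ^ (r₀ ^ j) := by
    intro j
    induction j with
    | zero => simp
    | succ j ih =>
      calc b ^ (j + 1) * a * (b ^ (j + 1))⁻¹ = b * (b ^ j * a * (b ^ j)⁻¹) * b⁻¹ := by
            rw [pow_succ']; simp [mul_assoc]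
        _ = (b * a * b⁻¹) ^ (r₀ ^ j) := by rw [ih, conj_pow]
        _ = _ := by rw [← hr₀, ← pow_mul, pow_succ']
  have hfermat : ∀ j, r₀ ^ p ^ j ≡ r₀ [MOD p] := by
    intro j
    induction j with
    | zero => simp [Nat.ModEq]
    | succ j ih =>
      rw [pow_succ, pow_mul]
      refine (ih.pow p).trans ?_
      have := ZMod.pow_card (r₀ : ZMod p)
      rw [← ZMod.natCast_eq_natCast_iff]
      push_cast
      exact this
  have hr1 : r₀ ≡ 1 [MOD p] := by
    have h := hpow (p ^ k)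
    rw [← hk, pow_orderOf_eq_one, one_mul, inv_one, mul_one] at h
    have h2 : a ^ 1 = a ^ (r₀ ^ orderOf b) := by rwa [pow_one]
    have h' := pow_eq_pow_iff_modEq.1 h2
    rw [hm] at h'
    exact (hfermat k).symm.trans ((hk ▸ (h'.of_dvd (dvd_pow_self p (by omega))).symm))
  have hr11 : 1 < r₀ := by
    rcases Nat.lt_or_ge 1 r₀ with h | h
    · exact h
    · interval_cases r₀
      · have := hr1.dvd_iff (dvd_refl p)
        simp at this
        exact absurd this hp.out.ne_one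
      · exact absurd (by rw [← hr₀, pow_one]) hcomm
  obtain ⟨c, u, hu, hcu⟩ := Nat.exists_eq_pow_mul_and_not_dvd (show r₀ - 1 ≠ 0 by omega) p hp.out.ne_one
  have hc1 : 1 ≤ c := by
    rcases Nat.eq_zero_or_pos c with rfl | h
    · exact absurd ((Nat.modEq_iff_dvd' hr11.le).1 hr1.symm) (by rw [hcu]; simpa using hu)
    · exact h
  have hcm : c < m := by
    by_contra hge
    apply hcomm
    have h1 : a ^ p ^ c = 1 :=
      orderOf_dvd_iff_pow_eq_one.1 (by rw [hm]; exact pow_dvd_pow p (by omega))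
    rw [← hr₀, show r₀ = 1 + p ^ c * u by omega, pow_add, pow_one, pow_mul, h1, one_pow, mul_one]
  refine ⟨⟨a, b, c, m - c, u, hc1, hu, ?_, ?_, hgen⟩⟩
  · rw [← hr₀, show r₀ = 1 + p ^ c * u by omega]
  · rw [orderOf_pow, hm, Nat.gcd_eq_right (pow_dvd_pow p hcm.le), Nat.pow_div hcm.le hp.out.pos]

end CfsgLib.MetacyclicOdd
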