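import Mathlib.Algebra.BigOperators.Intervals
import Mathlib.Algebra.Order.BigOperators.Group.Finset
import Mathlib.Data.Nat.ModEq
import Mathlib.Data.Nat.Prime.Basic
import Mathlib.Data.Int.ModEq
import Mathlib.Tactic.Ring
import Mathlib.Tactic.Linarith
import Mathlib.Data.Nat.Factorization.Basic
import Mathlib.Algebra.Ring.GeomSum

/-!
Geometric sums `1 + R + ... + R^(j-1)` for `R ≡ 1 (mod p)`, `p` an odd prime.
-/

namespace CfsgLib.MetacyclicOdd

/-- The geometric sum. -/
def geom (R j : ℕ) : ℕ := ∑ t ∈ Finset.range j, R ^ t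

@[simp] lemma geom_zero (R : ℕ) : geom R 0 = 0 := by simp [geom]

@[simp] lemma geom_one (R : ℕ) : geom R 1 = 1 := by simp [geom]

lemma geom_succ (R j : ℕ) : geom R (j + 1) = geom R j + R ^ j := by
  simp [geom, Finset.sum_range_succ]

lemma geom_add (R j j' : ℕ) : geom R (j + j') = geom R j + R ^ j * geom R j' := by
  induction j' with
  | zero => simp
  | succ j' ih => rw [← add_assoc, geom_succ, ih, geom_succ, pow_add]; ring

lemma geom_mul (R j M : ℕ) : geom R (j * M) = geom R j * geom (R ^ j) M := by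
  induction M with
  | zero => simp
  | succ M ih => rw [Nat.mul_succ, geom_add, ih, geom_succ, pow_mul]; ring

lemma pow_eq_geom (c j : ℕ) : (1 + c) ^ j = 1 + c * geom (1 + c) j := by
  induction j with
  | zero => simp
  | succ j ih =>
    calc (1 + c) ^ (j + 1) = (1 + c) ^ j + c * (1 + c) ^ j := by rw [pow_succ]; ring
      _ = _ := by rw [geom_succ, mul_add]; nth_rw 1 [ih]; ring

variable {p : ℕ}

lemma geom_modEq {R : ℕ} (hR : R ≡ 1 [MOD p]) (j : ℕ) : geom R j ≡ j [MOD p] := by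
  induction j with
  | zero => simp [Nat.ModEq]
  | succ j ih => rw [geom_succ]; simpa using ih.add (hR.pow j)

lemma pow_modEq_one {R : ℕ} (hR : R ≡ 1 [MOD p]) (j : ℕ) : R ^ j ≡ 1 [MOD p] := by
  simpa using hR.pow j

variable [hp : Fact p.Prime]

lemma geom_prime {R : ℕ} (hodd : p ≠ 2) (hR : R ≡ 1 [MOD p]) : geom R p ≡ p [MOD p ^ 2] := by
  have hR1 : 1 ≤ R := by
    rcases Nat.eq_zero_or_pos R with rfl | h
    · have := hR.symm.dvd_iff (dvd_refl p)
      simp at this
      exact absurd this hp.out.ne_one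
    · exact h
  obtain ⟨x, hx⟩ := (Nat.modEq_iff_dvd' hR1).1 hR.symm
  obtain rfl : R = 1 + p * x := by omega
  have h1 : ∀ t, (1 + p * x) ^ t ≡ 1 + t * (p * x) [MOD p ^ 2] := by
    intro t
    induction t with
    | zero => simp [Nat.ModEq]
    | succ t ih =>
      rw [pow_succ]
      refine (ih.mul_right _).trans ?_
      rw [show (1 + t * (p * x)) * (1 + p * x) = 1 + (t + 1) * (p * x) + t * x * x * p ^ 2 by ring]
      simp [Nat.ModEq]
  have h2 : geom (1 + p * x) p ≡ p + (∑ t ∈ Finset.range p, t) * (p * x) [MOD p ^ 2] := by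
    have : ∀ n, geom (1 + p * x) n ≡ n + (∑ t ∈ Finset.range n, t) * (p * x) [MOD p ^ 2] := by
      intro n
      induction n with
      | zero => simp [Nat.ModEq]
      | succ n ih =>
        rw [geom_succ, Finset.sum_range_succ,
          show n + 1 + (∑ t ∈ Finset.range n, t + n) * (p * x) =
            (n + (∑ t ∈ Finset.range n, t) * (p * x)) + (1 + n * (p * x)) by ring]
        exact ih.add (h1 n)
    exact this p
  obtain ⟨q, hq⟩ : p ∣ ∑ t ∈ Finset.range p, t := by
    have h := Finset.sum_range_id_mul_two p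
    exact ((Nat.coprime_primes hp.out Nat.prime_two).2 hodd).dvd_of_dvd_mul_right
      (h ▸ dvd_mul_right p _)
  refine h2.trans ?_
  rw [hq, show p + p * q * (p * x) = p + q * x * p ^ 2 by ring]
  simp [Nat.ModEq]

/-- Lifting the exponent: `geom R (p ^ v * j) = p ^ v * w` with `w ≡ j (mod p)`. -/
lemma geom_pow_mul {R : ℕ} (hodd : p ≠ 2) (hR : R ≡ 1 [MOD p]) (v j : ℕ) :
    ∃ w, geom R (p ^ v * j) = p ^ v * w ∧ w ≡ j [MOD p] := by
  induction v generalizing R with
  | zero => exact ⟨geom R j, by simp, geom_modEq hR j⟩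
  | succ v ih =>
    obtain ⟨w, hw, hwj⟩ := ih (pow_modEq_one hR p)
    have h1 := geom_prime hodd hR
    have hd : p ∣ geom R p :=
      (h1.dvd_iff (dvd_pow_self p two_ne_zero)).2 dvd_rfl
    obtain ⟨y, hy⟩ := hd
    refine ⟨y * w, ?_, ?_⟩
    · rw [show p ^ (v + 1) * j = p * (p ^ v * j) by ring, geom_mul, hw, hy]; ring
    · have hy1 : y ≡ 1 [MOD p] := by
        rw [hy, pow_two] at h1
        exact Nat.ModEq.mul_left_cancel' hp.out.ne_zero (by simpa using h1)
      simpa using hy1.mul hwj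

/-- Divisibility of `geom R j * i` by prime powers is that of `j * i`. -/
lemma pow_dvd_geom_mul {R : ℕ} (hodd : p ≠ 2) (hR : R ≡ 1 [MOD p]) (e j i : ℕ) :
    p ^ e ∣ geom R j * i ↔ p ^ e ∣ j * i := by
  rcases Nat.eq_zero_or_pos j with rfl | hj
  · simp
  obtain ⟨v, j', hj', rfl⟩ := Nat.exists_eq_pow_mul_and_not_dvd hj.ne' p hp.out.ne_one
  obtain ⟨w, hw, hwj⟩ := geom_pow_mul hodd hR v j'
  have hwn : ¬ p ∣ w := fun h => hj' ((hwj.dvd_iff dvd_rfl).1 h)
  have h1 : (p ^ e).Coprime w := (hp.out.coprime_iff_not_dvd.2 hwn).pow_left e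
  have h2 : (p ^ e).Coprime j' := (hp.out.coprime_iff_not_dvd.2 hj').pow_left e
  rw [hw, show p ^ v * w * i = w * (p ^ v * i) by ring,
    show p ^ v * j' * i = j' * (p ^ v * i) by ring, h1.dvd_mul_left, h2.dvd_mul_left]

lemma pow_dvd_geom {R : ℕ} (hodd : p ≠ 2) (hR : R ≡ 1 [MOD p]) (e j : ℕ) :
    p ^ e ∣ geom R j ↔ p ^ e ∣ j := by
  simpa using pow_dvd_geom_mul hodd hR e j 1

/-- Congruent bases give congruent geometric sums of prime power length, with a gain. -/
lemma geom_pow_modEq_of_modEq {R R' e : ℕ} (hodd : p ≠ 2) (hR : R ≡ 1 [MOD p]) (he : 1 ≤ e)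
    (h : R ≡ R' [MOD p ^ e]) (l : ℕ) : geom R (p ^ l) ≡ geom R' (p ^ l) [MOD p ^ (l + e)] := by
  induction l generalizing R R' e with
  | zero => simp [Nat.ModEq]
  | succ l ih =>
    have hp1 : R ≡ R' [MOD p] := h.of_dvd (dvd_pow_self p (by omega))
    have hR' : R' ≡ 1 [MOD p] := hp1.symm.trans hR
    -- `R ^ p` and `R' ^ p` agree one power higher
    have hcast : (R : ℤ) ≡ R' [ZMOD (p ^ e : ℕ)] := Int.natCast_modEq_iff.2 h
    obtain ⟨d, hd⟩ := (Int.modEq_iff_dvd.1 hcast.symm)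
    have hkey : ∀ n, (R : ℤ) ^ n - (R' : ℤ) ^ n =
        ((R : ℤ) - R') * ∑ t ∈ Finset.range n, (R : ℤ) ^ t * (R' : ℤ) ^ (n - 1 - t) := fun n => by
      rw [mul_comm, geom_sum₂_mul]
    have hsum : ∀ n, (∑ t ∈ Finset.range n, (R : ℤ) ^ t * (R' : ℤ) ^ (n - 1 - t)) ≡ n [ZMOD p] := by
      intro n
      have e1 : (R : ℤ) ≡ 1 [ZMOD p] := by exact_mod_cast Int.natCast_modEq_iff.2 hR
      have e2 : (R' : ℤ) ≡ 1 [ZMOD p] := by exact_mod_cast Int.natCast_modEq_iff.2 hR'
      have : ∀ m ≤ n, (∑ t ∈ Finset.range m, (R : ℤ) ^ t * (R' : ℤ) ^ (n - 1 - t)) ≡ m [ZMOD p] := by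
        intro m
        induction m with
        | zero => intro _; simp [Int.ModEq]
        | succ m ihm =>
          intro hm
          rw [Finset.sum_range_succ]
          push_cast
          exact (ihm (by omega)).add (by simpa using (e1.pow m).mul (e2.pow (n - 1 - m)))
      exact this n le_rfl
    have hpow : R ^ p ≡ R' ^ p [MOD p ^ (e + 1)] := by
      rw [← Int.natCast_modEq_iff, Int.modEq_comm, Int.modEq_iff_dvd]
      push_cast
      rw [hkey, pow_succ, hd]
      obtain ⟨q, hq⟩ := Int.modEq_zero_iff_dvd.1 ((hsum p).trans (Int.modEq_zero_iff_dvd.2 dvd_rfl))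
      exact ⟨d * q, by rw [hq]; push_cast; ring⟩
    have hgp : geom R p ≡ geom R' p [MOD p ^ (e + 1)] := by
      rw [← Int.natCast_modEq_iff, Int.modEq_comm, Int.modEq_iff_dvd]
      simp only [geom]
      push_cast
      rw [← Finset.sum_sub_distrib, pow_succ]
      have : ∀ n, ∃ q : ℤ, (∑ t ∈ Finset.range n, ((R : ℤ) ^ t - (R' : ℤ) ^ t)) =
          (p : ℤ) ^ e * q ∧ q ≡ d * (∑ t ∈ Finset.range n, t : ℕ) [ZMOD p] := by
        intro n
        induction n with
        | zero => exact ⟨0, by simp, by simp [Int.ModEq]⟩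
        | succ n ihn =>
          obtain ⟨q, hq, hq'⟩ := ihn
          refine ⟨q + d * ∑ t ∈ Finset.range n, (R : ℤ) ^ t * (R' : ℤ) ^ (n - 1 - t), ?_, ?_⟩
          · rw [Finset.sum_range_succ, hq, hkey, hd]; push_cast; ring
          · rw [Finset.sum_range_succ]
            push_cast
            rw [mul_add]
            push_cast at hq'
            exact hq'.add ((hsum n).mul_left d)
      obtain ⟨q, hq, hq'⟩ := this p
      have hdiv : (p : ℤ) ∣ d * (∑ t ∈ Finset.range p, t : ℕ) := by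
        refine Dvd.dvd.mul_left ?_ d
        have h' := Finset.sum_range_id_mul_two p
        exact_mod_cast ((Nat.coprime_primes hp.out Nat.prime_two).2 hodd).dvd_of_dvd_mul_right
          (h' ▸ dvd_mul_right p _)
      obtain ⟨q', rfl⟩ := Int.modEq_zero_iff_dvd.1 (hq'.trans (Int.modEq_zero_iff_dvd.2 hdiv))
      exact ⟨q', by rw [hq]; ring⟩
    have key := ih (R := R ^ p) (R' := R' ^ p) (e := e + 1) (pow_modEq_one hR p) (by omega) hpow
    rw [pow_succ', geom_mul, geom_mul]
    -- combine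
    have hd1 : p ∣ geom R' p := ((geom_modEq hR' p).dvd_iff dvd_rfl).2 dvd_rfl
    obtain ⟨w, hw, -⟩ := geom_pow_mul hodd (pow_modEq_one hR p) l 1
    rw [mul_one] at hw
    obtain ⟨y, hy⟩ := hd1
    refine (Nat.ModEq.trans ?_ (?_ : geom R' p * geom (R ^ p) (p ^ l) ≡ _ [MOD _]))
    · rw [hw, show l + 1 + e = l + (e + 1) by omega, pow_add,
        show geom R p * (p ^ l * w) = p ^ l * (geom R p * w) by ring,
        show geom R' p * (p ^ l * w) = p ^ l * (geom R' p * w) by ring]
      exact (hgp.mul_right w).mul_left' _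
    · rw [hy, mul_assoc, mul_assoc, show l + 1 + e = 1 + (l + e) by omega, pow_add, pow_one]
      exact (((key.of_dvd (pow_dvd_pow p (by omega)))).mul_left y).mul_left' _

end CfsgLib.MetacyclicOdd
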