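import Cfsg.Prelude.Def_OddOrderLocal
import Cfsg.Prelude.Def_PLocal
import Cfsg.Agent.Lib.PGroup.Regular
import Cfsg.Agent.Lib.OddOrder.RankTwoStable
import Mathlib

/-!
Metacyclic groups of odd prime power order are regular; the bottom two omega layers when there is
no cyclic subgroup of index `p`.
-/

set_option autoImplicit false

open scoped commutatorElement

namespace CfsgLib.MetacyclicOdd.OmegaTwo

variable {G : Type*} [Group G] [Finite G] {p : ℕ} [hp : Fact p.Prime]

/-- A normal subgroup of order at most `p` of a `p`-group is central. -/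
theorem central_of_small (hG : IsPGroup p G) (N : Subgroup G) [hN : N.Normal]
    (hc : Nat.card N ≤ p) : N ≤ Subgroup.center G := by
  intro n hn
  by_cases h1 : n = 1
  · rw [h1]; exact one_mem _
  obtain ⟨d, hd, hd1, -, hdc⟩ := CfsgLib.OddOrder.RankTwoStable.exists_central (R := (⊤ : Subgroup G))
    (N := N) (hG.to_subgroup ⊤) le_top (by rw [Subgroup.normalizer_eq_top_iff.mpr hN])
    (fun e => h1 (Subgroup.mem_bot.mp (e ▸ hn)))
  have hdd : 1 < Nat.card (Subgroup.zpowers d) := by
    rw [Nat.card_zpowers]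
    have := orderOf_pos d
    have : orderOf d ≠ 1 := fun e => hd1 (orderOf_eq_one_iff.mp e)
    omega
  have hzc : Subgroup.zpowers d ≤ Subgroup.center G := by
    rw [Subgroup.zpowers_le, Subgroup.mem_center_iff]
    intro g
    exact Subgroup.mem_centralizer_iff.mp hdc g (Subgroup.mem_top g)
  obtain ⟨k, hk⟩ := IsPGroup.iff_card.mp (hG.to_subgroup (Subgroup.zpowers d))
  have hge : Nat.card N ≤ Nat.card (Subgroup.zpowers d) := by
    refine hc.trans ?_
    rw [hk]
    exact Nat.le_self_pow (fun h0 => by rw [hk, h0, pow_zero] at hdd; exact lt_irrefl 1 hdd) p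
  exact hzc ((Subgroup.eq_of_le_of_card_ge (Subgroup.zpowers_le.mpr hd) hge).ge hn)

/-- The class two power formula. -/
theorem mul_pow_class_two {H : Type*} [Group H] (a b c : H) (hc : b * a = c * (a * b))
    (hz : ∀ h : H, c * h = h * c) : ∀ n : ℕ, (a * b) ^ n = c ^ n.choose 2 * (a ^ n * b ^ n) := by
  have hbn : ∀ n : ℕ, b ^ n * a = c ^ n * (a * b ^ n) := by
    intro n
    induction n with
    | zero => simp
    | succ n ih =>
      have hcc : b * c ^ n = c ^ n * b := ((show Commute c b from hz b).symm.pow_right n).eq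
      calc b ^ (n + 1) * a = b * (b ^ n * a) := by rw [pow_succ', mul_assoc]
        _ = c ^ n * (b * a) * b ^ n := by rw [ih, ← mul_assoc, hcc]; simp [mul_assoc]
        _ = c ^ (n + 1) * (a * b ^ (n + 1)) := by
            rw [hc, pow_succ c, pow_succ' b]; simp [mul_assoc]
  intro n
  induction n with
  | zero => simp
  | succ n ih =>
    have hca : a ^ n * c ^ n = c ^ n * a ^ n :=
      ((show Commute c (a ^ n) from hz _).symm.pow_right n).eq
    calc (a * b) ^ (n + 1) = c ^ n.choose 2 * (a ^ n * (b ^ n * a) * b) := by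
          rw [pow_succ, ih]; simp [mul_assoc]
      _ = c ^ n.choose 2 * c ^ n * (a ^ (n + 1) * b ^ (n + 1)) := by
          rw [hbn, ← mul_assoc (a ^ n), hca, pow_succ a, pow_succ b]; simp [mul_assoc]
      _ = c ^ (n + 1).choose 2 * (a ^ (n + 1) * b ^ (n + 1)) := by
          rw [← pow_add, show (n + 1).choose 2 = n.choose 2 + n by
            rw [Nat.choose_succ_succ' n 1, Nat.choose_one_right, Nat.add_comm]]

/-- A `p`-group, `p` odd, with cyclic derived subgroup is regular. -/
theorem regular_of_cyclic_derived (hp2 : p ≠ 2) (hG : IsPGroup p G) [hcy : IsCyclic (commutator G)] :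
    Cfsg.IsRegularPGroup p G := by
  classical
  refine CfsgLib.PGroup.Regular.regular_of_one hG fun a b => ?_
  set K := Subgroup.closure ({a, b} : Set G) with hK
  set D := ⁅K, K⁆ with hD
  set P := Cfsg.powerClosure p 1 D with hP
  have hDK : D ≤ K := Subgroup.commutator_le_self K
  have hPD : P ≤ D := by
    rw [hP, Cfsg.powerClosure, Subgroup.closure_le]
    rintro _ ⟨x, hx, rfl⟩
    exact pow_mem hx _
  -- work in `K`
  set P' := P.subgroupOf K with hP'
  haveI hP'n : P'.Normal := by
    rw [hP', Subgroup.normal_subgroupOf_iff_le_normalizer (hPD.trans hDK), hP, Cfsg.powerClosure,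
      Subgroup.le_normalizer_closure_iff]
    rintro g hg _ ⟨x, hx, rfl⟩
    refine Subgroup.subset_closure ⟨g * x * g⁻¹, ?_, conj_pow.symm⟩
    have hn : K ≤ Subgroup.normalizer (D : Set G) := by
      rw [hD]
      exact Subgroup.normalizer_commutator_ge_right K K
    exact (Subgroup.mem_normalizer_iff.mp (hn hg) x).mp hx
  set π := QuotientGroup.mk' P'
  haveI hDn : (D.subgroupOf K).Normal := by
    rw [Subgroup.normal_subgroupOf_iff_le_normalizer hDK]
    exact Subgroup.normalizer_commutator_ge_right K K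
  haveI : ((D.subgroupOf K).map π).Normal :=
    Subgroup.Normal.map hDn _ (QuotientGroup.mk'_surjective _)
  have hDle : D ≤ commutator G := by
    rw [hD, commutator_def]
    exact Subgroup.commutator_mono le_top le_top
  haveI : IsCyclic D := isCyclic_of_injective (Subgroup.inclusion hDle) (Subgroup.inclusion_injective _)
  obtain ⟨d, hd⟩ := (Subgroup.isCyclic_iff_exists_zpowers_eq_top D).mp inferInstance
  have hdD : d ∈ D := hd ▸ Subgroup.mem_zpowers d
  have hsmall : Nat.card ((D.subgroupOf K).map π) ≤ p := by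
    have hmap : (D.subgroupOf K).map π ≤ Subgroup.zpowers (π ⟨d, hDK hdD⟩) := by
      rintro _ ⟨⟨x, hxK⟩, hx, rfl⟩
      obtain ⟨i, hi⟩ : ∃ i : ℤ, d ^ i = x := Subgroup.mem_zpowers_iff.mp (hd.ge hx)
      exact ⟨i, by
        show π ⟨d, hDK hdD⟩ ^ i = π ⟨x, hxK⟩
        rw [← map_zpow]; exact congrArg π (Subtype.ext hi)⟩
    refine (Subgroup.card_le_of_le hmap).trans ?_
    rw [Nat.card_zpowers]
    refine Nat.le_of_dvd hp.out.pos (orderOf_dvd_iff_pow_eq_one.mpr ?_)
    rw [← map_pow, QuotientGroup.mk'_apply, QuotientGroup.eq_one_iff]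
    exact Subgroup.subset_closure ⟨d, hdD, by simp⟩
  have hcent := central_of_small ((hG.to_subgroup K).to_quotient P') _ hsmall
  set A : K := ⟨a, Subgroup.subset_closure (by simp)⟩
  set B : K := ⟨b, Subgroup.subset_closure (by simp)⟩
  have hcD : ((B * A * (A * B)⁻¹ : K) : G) ∈ D := by
    have : b * a * (a * b)⁻¹ = ⁅b, a⁆ := by simp [commutatorElement_def, mul_assoc]
    show b * a * (a * b)⁻¹ ∈ D
    rw [this]
    exact Subgroup.commutator_mem_commutator B.2 A.2
  set c := π (B * A * (A * B)⁻¹) with hc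
  have hcc : c ∈ Subgroup.center (K ⧸ P') := hcent ⟨_, hcD, rfl⟩
  have hcp : c ^ p = 1 := by
    rw [hc, ← map_pow, QuotientGroup.mk'_apply, QuotientGroup.eq_one_iff]
    exact Subgroup.subset_closure ⟨_, hcD, by simp⟩
  have key := mul_pow_class_two (π A) (π B) c (by rw [hc, ← map_mul, ← map_mul, ← map_mul,
    inv_mul_cancel_right]) (fun h => (Subgroup.mem_center_iff.mp hcc h).symm) p
  have hchoose : c ^ p.choose 2 = 1 := by
    obtain ⟨t, ht⟩ := hp.out.dvd_choose_self two_ne_zero
      (lt_of_le_of_ne hp.out.two_le (Ne.symm hp2))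
    rw [ht, pow_mul, hcp, one_pow]
  rw [hchoose, one_mul, ← map_mul, ← map_pow, ← map_pow, ← map_pow, ← map_mul] at key
  have hmem : (A ^ p * B ^ p)⁻¹ * (A * B) ^ p ∈ P' := QuotientGroup.eq.mp key.symm
  refine ⟨(a ^ p * b ^ p)⁻¹ * (a * b) ^ p, hmem, ?_⟩
  rw [pow_one, mul_inv_cancel_left]

theorem commutator_cyclic (hm : Cfsg.IsMetacyclic G) : IsCyclic (commutator G) := by
  obtain ⟨N, hN, hNc, hQ⟩ := hm
  letI : CommGroup (G ⧸ N) := IsCyclic.commGroup
  have hle : commutator G ≤ N := by
    rw [commutator_def, Subgroup.commutator_le]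
    intro x _ y _
    rw [← QuotientGroup.eq_one_iff]
    show QuotientGroup.mk' N ⁅x, y⁆ = 1
    rw [map_commutatorElement, commutatorElement_eq_one_iff_mul_comm]
    exact mul_comm _ _
  exact isCyclic_of_injective (Subgroup.inclusion hle) (Subgroup.inclusion_injective _)

variable (G p) in
/-- The facts about the first two omega subgroups. -/
structure Layers where
  /-- elements of exponent `p` -/
  E : Subgroup G
  /-- elements of exponent `p ^ 2` -/
  K : Subgroup G
  memE : ∀ x, x ∈ E ↔ x ^ p = 1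
  memK : ∀ x, x ∈ K ↔ x ^ (p * p) = 1
  cardE : Nat.card E = p ^ 2
  cardK : Nat.card K = p ^ 4
  powE : ∀ e ∈ E, ∃ x ∈ K, x ^ p = e
  mul_pow : ∀ x ∈ K, ∀ y ∈ K, (x * y) ^ p = x ^ p * y ^ p
  comm : ∀ e ∈ E, ∀ y ∈ K, e * y = y * e
  /-- elements whose commutator has exponent `p` have central powers -/
  pow_comm : ∀ x y : G, ⁅x, y⁆ ^ p = 1 → x ^ p * y = y * x ^ p

theorem exists_layers (hp2 : p ≠ 2) (hG : IsPGroup p G) (hm : Cfsg.IsMetacyclic G)
    (hnc : ∀ C : Subgroup G, IsCyclic C → C.index ≠ p) (hnt : Nontrivial G) :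
    Nonempty (Layers G p) := by
  classical
  haveI := commutator_cyclic hm
  have hR := regular_of_cyclic_derived hp2 hG
  have hq : ∀ a b : G, a ^ p = b ^ p ↔ (a * b⁻¹) ^ p = 1 := fun a b => by
    simpa using CfsgLib.PGroup.Regular.pow_eq_iff hR a b 1
  set E := CfsgLib.PGroup.Regular.omega hR 1 with hE
  set K := CfsgLib.PGroup.Regular.omega hR 2 with hK
  have memE : ∀ x, x ∈ E ↔ x ^ p = 1 := fun x => by
    rw [hE, CfsgLib.PGroup.Regular.mem_omega, pow_one]
  have memK : ∀ x, x ∈ K ↔ x ^ (p * p) = 1 := fun x => by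
    rw [hK, CfsgLib.PGroup.Regular.mem_omega, pow_two]
  have hpc : ∀ {x y : G}, ⁅x, y⁆ ^ p = 1 → x ^ p * y = y * x ^ p := by
    intro x y h
    have := (CfsgLib.PGroup.Regular.commute_pow_iff hR x y 1)
    rw [pow_one] at this
    refine this.mpr ?_
    rw [show x⁻¹ * y⁻¹ * x * y = (y * x)⁻¹ * ⁅x, y⁆ * (y * x) by
      simp [commutatorElement_def, mul_assoc]]
    calc ((y * x)⁻¹ * ⁅x, y⁆ * (y * x)) ^ p = (y * x)⁻¹ * ⁅x, y⁆ ^ p * (y * x) := by
          have := conj_pow (a := (y * x)⁻¹) (b := ⁅x, y⁆) (i := p)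
          rwa [inv_inv] at this
      _ = 1 := by rw [h, mul_one, inv_mul_cancel]
  obtain ⟨N, hN, hNc, hQ⟩ := hm
  -- at most `p ^ 2` elements of exponent `p`
  have hsmall : Nat.card E ≤ p ^ 2 := by
    set π := QuotientGroup.mk' N
    have h1 : Nat.card (E ⊓ N : Subgroup G) ≤ p := by
      letI := Fintype.ofFinite N
      have hle := IsCyclic.card_pow_eq_one_le (α := N) (n := p) hp.out.pos
      rw [← Fintype.card_subtype, ← Nat.card_eq_fintype_card] at hle
      refine le_trans (Nat.card_le_card_of_injective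
        (fun x : (E ⊓ N : Subgroup G) => (⟨⟨x, x.2.2⟩, Subtype.ext ((memE _).mp x.2.1)⟩ :
          {a : N // a ^ p = 1})) (fun x y h => ?_)) hle
      exact Subtype.ext (congrArg (fun z : {a : N // a ^ p = 1} => ((z : N) : G)) h)
    have h2 : Nat.card (E.map π) ≤ p := by
      letI := Fintype.ofFinite (G ⧸ N)
      have hle := IsCyclic.card_pow_eq_one_le (α := G ⧸ N) (n := p) hp.out.pos
      rw [← Fintype.card_subtype, ← Nat.card_eq_fintype_card] at hle
      refine le_trans (Nat.card_le_card_of_injective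
        (fun x : E.map π => (⟨x, by
          obtain ⟨e, he, hex⟩ := x.2
          rw [← hex, ← map_pow, (memE e).mp he, map_one]⟩ : {a : G ⧸ N // a ^ p = 1}))
        (fun x y h => ?_)) hle
      exact Subtype.ext (congrArg (fun z : {a : G ⧸ N // a ^ p = 1} => (z : G ⧸ N)) h)
    have h3 := Subgroup.card_mul_index ((E ⊓ N).subgroupOf E)
    rw [Nat.card_congr (Subgroup.subgroupOfEquivOfLe inf_le_left).toEquiv] at h3
    have h4 : ((E ⊓ N).subgroupOf E).index = Nat.card (E.map π) := by
      show (E ⊓ N).relIndex E = _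
      rw [Subgroup.inf_relIndex_left]
      have := Subgroup.relIndex_ker (K := E) π
      rwa [QuotientGroup.ker_mk'] at this
    rw [h4] at h3
    rw [← h3, pow_two]
    exact Nat.mul_le_mul h1 h2
  -- the powers
  set W := Cfsg.powerClosure p 1 (⊤ : Subgroup G) with hW
  have memW : ∀ y, y ∈ W ↔ ∃ x : G, y = x ^ p := by
    intro y
    rw [hW, ← SetLike.mem_coe, ← CfsgLib.PGroup.Regular.powerClosure_eq hR 1 ⊤]
    simp
  have hWcard : Nat.card G = Nat.card E * Nat.card W := by
    let f : G → W := fun x => ⟨x ^ p, (memW _).mpr ⟨x, rfl⟩⟩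
    have hf : Function.Surjective f := fun y => by
      obtain ⟨x, hx⟩ := (memW y).mp y.2
      exact ⟨x, Subtype.ext hx.symm⟩
    have e : ∀ y : W, {x : G // f x = y} ≃ E := fun y =>
      { toFun := fun x => ⟨x.1 * (Function.surjInv hf y)⁻¹, (memE _).mpr ((hq _ _).mp
          (congrArg Subtype.val (x.2.trans (Function.surjInv_eq hf y).symm)))⟩
        invFun := fun e => ⟨(e : G) * Function.surjInv hf y, by
          refine Eq.trans (Subtype.ext ?_) (Function.surjInv_eq hf y)
          exact (hq _ _).mpr (by rw [mul_inv_cancel_right]; exact (memE _).mp e.2)⟩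
        left_inv := fun x => Subtype.ext (by simp)
        right_inv := fun e => Subtype.ext (by simp) }
    rw [← Nat.card_congr (Equiv.sigmaFiberEquiv f), Nat.card_congr (Equiv.sigmaCongrRight e),
      Nat.card_congr (Equiv.sigmaEquivProd _ _), Nat.card_prod, mul_comm]
  obtain ⟨i, hi⟩ := IsPGroup.iff_card.mp (hG.to_subgroup E)
  have hi2 : i = 2 := by
    have hile : i ≤ 2 := by
      rw [hi] at hsmall
      exact (Nat.pow_le_pow_iff_right hp.out.one_lt).mp hsmall
    by_contra hne
    have hEp : Nat.card E ≤ p := by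
      rw [hi]
      calc p ^ i ≤ p ^ 1 := Nat.pow_le_pow_right hp.out.pos (by omega)
        _ = p := pow_one p
    have hcyc := CfsgLib.OddOrder.RankTwoStable.isCyclic_of_omega_le hp2 (S := (⊤ : Subgroup G))
      (hG.to_subgroup ⊤) hEp (fun x _ hx => (memE x).mpr hx)
    obtain ⟨g, hg⟩ := hcyc.exists_generator
    have hog : orderOf (g : G) = Nat.card G := by
      rw [Subgroup.orderOf_coe, orderOf_eq_card_of_forall_mem_zpowers hg, Subgroup.card_top]
    obtain ⟨n, hn, hcard⟩ := hG.nontrivial_iff_card.mp hnt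
    refine hnc (Subgroup.zpowers ((g : G) ^ p)) (Subgroup.isCyclic_zpowers _) ?_
    have := (Subgroup.zpowers ((g : G) ^ p)).card_mul_index
    rw [Nat.card_zpowers, orderOf_pow, hog, hcard,
      Nat.gcd_eq_right (dvd_pow_self p hn.ne')] at this
    have hd : p ^ n / p * p = p ^ n := Nat.div_mul_cancel (dvd_pow_self p hn.ne')
    exact Nat.eq_of_mul_eq_mul_left
      (Nat.div_pos (Nat.le_self_pow hn.ne' p) hp.out.pos) (this.trans hd.symm)
  have cardE : Nat.card E = p ^ 2 := by rw [hi, hi2]
  have hEW : E ≤ W := by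
    have hncyc : ¬ IsCyclic W := by
      intro hc
      obtain ⟨g, hg⟩ := hc.exists_generator
      obtain ⟨x, hx⟩ := (memW g).mp g.2
      have hog : orderOf (g : G) = Nat.card W := by
        rw [Subgroup.orderOf_coe, orderOf_eq_card_of_forall_mem_zpowers hg]
      by_cases hW1 : Nat.card W = 1
      · -- exponent `p`
        obtain ⟨u, hu⟩ := exists_prime_orderOf_dvd_card' (G := G) p
          (by rw [hWcard, cardE]; exact Dvd.dvd.mul_right (dvd_pow_self p two_ne_zero) _)
        refine hnc (Subgroup.zpowers u) (Subgroup.isCyclic_zpowers u) ?_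
        have := (Subgroup.zpowers u).card_mul_index
        rw [Nat.card_zpowers, hu, hWcard, cardE, hW1, mul_one, pow_two] at this
        exact Nat.eq_of_mul_eq_mul_left hp.out.pos this
      · refine hnc (Subgroup.zpowers x) (Subgroup.isCyclic_zpowers x) ?_
        have hxo : orderOf x = p * Nat.card W := by
          obtain ⟨j, hj⟩ := IsPGroup.iff_orderOf.mp hG x
          have hj0 : j ≠ 0 := fun h0 => by
            rw [h0, pow_zero, orderOf_eq_one_iff] at hj
            rw [hx, hj, one_pow, orderOf_one] at hog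
            exact hW1 hog.symm
          rw [hx, orderOf_pow, hj, Nat.gcd_eq_right (dvd_pow_self p hj0)] at hog
          rw [hj, ← hog, Nat.mul_div_cancel' (dvd_pow_self p hj0)]
        have := (Subgroup.zpowers x).card_mul_index
        rw [Nat.card_zpowers, hxo, hWcard, cardE, pow_two] at this
        exact Nat.eq_of_mul_eq_mul_left (Nat.mul_pos hp.out.pos Nat.card_pos)
          (this.trans (by ring))
    intro e he
    by_contra heW
    apply hncyc
    refine CfsgLib.OddOrder.RankTwoStable.isCyclic_of_omega_le hp2 (Z := E ⊓ W) (hG.to_subgroup W)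
      ?_ (fun x hx hxp => ⟨(memE x).mpr hxp, hx⟩)
    obtain ⟨j, hj, hj'⟩ := (Nat.dvd_prime_pow hp.out).mp
      (show Nat.card (E ⊓ W : Subgroup G) ∣ p ^ 2 from cardE ▸ Subgroup.card_dvd_of_le inf_le_left)
    rw [hj']
    calc p ^ j ≤ p ^ 1 := Nat.pow_le_pow_right hp.out.pos (by
          by_contra h2
          have hj2 : j = 2 := by omega
          have := Subgroup.eq_of_le_of_card_ge (inf_le_left : E ⊓ W ≤ E) (by rw [cardE, hj', hj2])
          exact heW ((this.ge he).2))
      _ = p := pow_one p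
  have powE : ∀ e ∈ E, ∃ x ∈ K, x ^ p = e := by
    intro e he
    obtain ⟨x, rfl⟩ := (memW e).mp (hEW he)
    exact ⟨x, (memK x).mpr (by rw [pow_mul]; exact (memE _).mp he), rfl⟩
  have hpK : ∀ x ∈ K, x ^ p ∈ E := fun x hx => (memE _).mpr (by rw [← pow_mul]; exact (memK x).mp hx)
  have cardK : Nat.card K = p ^ 4 := by
    let f : K → E := fun x => ⟨(x : G) ^ p, hpK x x.2⟩
    have hf : Function.Surjective f := fun e => by
      obtain ⟨x, hx, hxe⟩ := powE e e.2
      exact ⟨⟨x, hx⟩, Subtype.ext hxe⟩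
    have hEK : E ≤ K := fun x hx => (memK x).mpr (by rw [pow_mul, (memE x).mp hx, one_pow])
    have e : ∀ y : E, {x : K // f x = y} ≃ E := fun y =>
      { toFun := fun x => ⟨(x.1 : G) * ((Function.surjInv hf y : K) : G)⁻¹, (memE _).mpr ((hq _ _).mp
          (congrArg Subtype.val (x.2.trans (Function.surjInv_eq hf y).symm)))⟩
        invFun := fun e => ⟨⟨(e : G) * ((Function.surjInv hf y : K) : G),
            mul_mem (hEK e.2) (Function.surjInv hf y).2⟩, by
          refine Eq.trans (Subtype.ext ?_) (Function.surjInv_eq hf y)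
          exact (hq _ _).mpr (by rw [mul_inv_cancel_right]; exact (memE _).mp e.2)⟩
        left_inv := fun x => Subtype.ext (Subtype.ext (by simp))
        right_inv := fun e => Subtype.ext (by simp) }
    rw [← Nat.card_congr (Equiv.sigmaFiberEquiv f), Nat.card_congr (Equiv.sigmaCongrRight e),
      Nat.card_congr (Equiv.sigmaEquivProd _ _), Nat.card_prod, cardE, ← pow_add]
  have hEn : E.Normal := ⟨fun e he g => (memE _).mpr (by
    rw [conj_pow, (memE e).mp he, mul_one, mul_inv_cancel])⟩
  -- commutators of `K` have exponent `p`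
  have hKK : ∀ x ∈ K, ∀ y ∈ K, ⁅x, y⁆ ^ p = 1 := by
    have hle : E ≤ K := fun x hx => (memK x).mpr (by rw [pow_mul, (memE x).mp hx, one_pow])
    haveI : (E.subgroupOf K).Normal := hEn.subgroupOf K
    have hq2 : Nat.card (K ⧸ E.subgroupOf K) = p ^ 2 := by
      have := (E.subgroupOf K).card_mul_index
      rw [Nat.card_congr (Subgroup.subgroupOfEquivOfLe hle).toEquiv, cardE, cardK,
        show (4 : ℕ) = 2 + 2 from rfl, pow_add] at this
      exact Nat.eq_of_mul_eq_mul_left (pow_pos hp.out.pos 2) this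
    intro x hx y hy
    have hcc := (IsPGroup.isMulCommutative_of_card_eq_prime_sq hq2).is_comm.comm
      (QuotientGroup.mk' _ (⟨x, hx⟩ : K)) (QuotientGroup.mk' _ (⟨y, hy⟩ : K))
    rw [← commutatorElement_eq_one_iff_mul_comm, ← map_commutatorElement, QuotientGroup.mk'_apply,
      QuotientGroup.eq_one_iff, Subgroup.mem_subgroupOf] at hcc
    exact (memE _).mp hcc
  refine ⟨⟨E, K, memE, memK, cardE, cardK, powE, fun x hx y hy => ?_, ?_, fun x y => hpc⟩⟩
  · obtain ⟨c, hc, hce⟩ := hR.2 x y 1
    rw [pow_one] at hce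
    have hc1 : c = 1 := by
      have hsub : ⁅Subgroup.closure ({x, y} : Set G), Subgroup.closure ({x, y} : Set G)⁆ ≤ E := by
        have hcl : Subgroup.closure ({x, y} : Set G) ≤ K := by
          rw [Subgroup.closure_le]
          rintro z (rfl | rfl) <;> assumption
        exact (Subgroup.commutator_mono hcl hcl).trans (Subgroup.commutator_le.mpr
          fun u hu v hv => (memE _).mpr (hKK u hu v hv))
      have hbot : Cfsg.powerClosure p 1
          ⁅Subgroup.closure ({x, y} : Set G), Subgroup.closure ({x, y} : Set G)⁆ ≤ ⊥ := by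
        rw [Cfsg.powerClosure, Subgroup.closure_le]
        rintro _ ⟨u, hu, rfl⟩
        simpa using (memE u).mp (hsub hu)
      exact Subgroup.mem_bot.mp (hbot hc)
    rw [hce, hc1, mul_one]
  · intro e he y hy
    obtain ⟨x, hx, rfl⟩ := powE e he
    exact hpc (hKK x hx y hy)

end CfsgLib.MetacyclicOdd.OmegaTwo
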